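import Cfsg.Agent.Lib.GorensteinWalter.Wiring
import Cfsg.Agent.Lib.GorensteinWalter.ModelAux
import Cfsg.Agent.Lib.Cores.MinNormal
import Cfsg.Agent.Lib.DicksonId.Small
import Cfsg.Agent.Lib.DicksonId.MaxCommon
import Cfsg.Agent.Lib.DicksonFull.Exist
import Cfsg.Agent.Lib.Alternating.Aut

/-!
# Core-free groups with dihedral Sylow 2-subgroups

Given the main proposition of the Gorenstein–Walter theorem, such a group is a 2-group, lies between
some `PSL(2,q)` and its automorphism group, or is `A₇`.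
-/

set_option autoImplicit false
set_option linter.unusedSectionVars false
set_option linter.style.haveILetI false

namespace Cfsg.Agent.Lib.GWConsumers70

open Cfsg.Agent.Lib.GorensteinWalter Cfsg.Agent.Lib.Fusion.Dihedral

universe u

local notation "PSL3" => Matrix.ProjectiveSpecialLinearGroup (Fin 2) (ZMod 3)

/-- `q` odd and `Q` between `PSL(2,q)` and its automorphism group. -/
def IsAlmostPSL (Q : Type u) [Group Q] : Prop :=
  ∃ (F : Type) (_ : Field F) (_ : Fintype F), Odd (Fintype.card F) ∧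
    ∃ K : Subgroup (MulAut (Matrix.ProjectiveSpecialLinearGroup (Fin 2) F)),
      (MulAut.conj : Matrix.ProjectiveSpecialLinearGroup (Fin 2) F →*
        MulAut (Matrix.ProjectiveSpecialLinearGroup (Fin 2) F)).range ≤ K ∧
      Nonempty (Q ≃* ↥K)

theorem two_ne_zero_three [Fact (Nat.Prime 3)] : (2 : ZMod 3) ≠ 0 := by
  intro h
  have h' : ((2 : ℕ) : ZMod 3) = 0 := by exact_mod_cast h
  rw [ZMod.natCast_eq_zero_iff] at h'
  omega

theorem nonempty_psl_three : Nonempty (PSL3 ≃* alternatingGroup (Fin 4)) := by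
  haveI : Fact (Nat.Prime 3) := ⟨Nat.prime_three⟩
  obtain ⟨φ, hφ⟩ := DicksonFull.exists_alt_four (F := ZMod 3) two_ne_zero_three
  have h := DicksonId.card_PSL_mul (F := ZMod 3) (p := 3)
  rw [ZMod.card, show Nat.gcd 2 (3 - 1) = 2 from rfl] at h
  have hb : Function.Bijective φ := (Nat.bijective_iff_injective_and_card φ).2 ⟨hφ, by
    have hA : Nat.card (alternatingGroup (Fin 4)) = 12 := by
      rw [Nat.card_eq_fintype_card]; decide +kernel
    omega⟩
  exact ⟨(MulEquiv.ofBijective φ hb).symm⟩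

theorem almost_of_alt_four {Q : Type u} [Group Q] (e : Q ≃* alternatingGroup (Fin 4)) : IsAlmostPSL Q := by
  haveI : Fact (Nat.Prime 3) := ⟨Nat.prime_three⟩
  obtain ⟨f⟩ := nonempty_psl_three
  have hc : ∀ a : alternatingGroup (Fin 4), (∀ b, a * b = b * a) → a = 1 := by decide +kernel
  have hinj : Function.Injective (MulAut.conj : PSL3 →* MulAut PSL3) := by
    rw [injective_iff_map_eq_one]
    intro z hz
    apply f.injective
    rw [map_one]
    refine hc _ fun b => ?_
    obtain ⟨u, rfl⟩ := f.surjective b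
    rw [← map_mul, ← map_mul]
    have := DFunLike.congr_fun hz u
    rw [MulAut.conj_apply, MulAut.one_apply] at this
    exact congrArg f (mul_inv_eq_iff_eq_mul.1 this)
  exact ⟨ZMod 3, inferInstance, inferInstance, by rw [ZMod.card]; decide, _, le_rfl,
    ⟨(e.trans f.symm).trans (MonoidHom.ofInjective hinj)⟩⟩

theorem almost_of_perm_four {Q : Type u} [Group Q] (e : Q ≃* Equiv.Perm (Fin 4)) : IsAlmostPSL Q := by
  haveI : Fact (Nat.Prime 3) := ⟨Nat.prime_three⟩
  obtain ⟨f⟩ := nonempty_psl_three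
  exact ⟨ZMod 3, inferInstance, inferInstance, by rw [ZMod.card]; decide, ⊤, le_top,
    ⟨((e.trans (Alternating.autEquiv (α := Fin 4) (by simp) (by simp))).trans
      (MulAut.congr f.symm)).trans Subgroup.topEquiv.symm⟩⟩

section Cases

variable {Q : Type u} [Group Q] [Finite Q]

/-- A fused four-group forbids a normal subgroup of order two. -/
theorem no_normal_two (hY : SylowCD Q) {U : Subgroup Q} (hU : IsFour U) {n : Q}
    (hn : n ∈ Subgroup.normalizer (U : Set Q)) (ho : Odd (orderOf n)) (hne : ¬ ∀ x ∈ U, n * x = x * n)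
    (N : Subgroup Q) [hN : N.Normal] : Nat.card N ≠ 2 := by
  intro hc
  classical
  obtain ⟨z, hz⟩ := exists_prime_orderOf_dvd_card' (G := N) 2 (by rw [hc])
  rw [← Subgroup.orderOf_coe] at hz
  have hzz : (z : Q) * z = 1 := by rw [← pow_two, ← hz, pow_orderOf_eq_one]
  have hz1 : (z : Q) ≠ 1 := fun h => by rw [h, orderOf_one] at hz; omega
  have hall : ∀ a ∈ N, a = 1 ∨ a = z := by
    intro a ha
    have hzN : Subgroup.zpowers (z : Q) = N := Subgroup.eq_of_le_of_card_ge
      (Subgroup.zpowers_le.2 z.2) (by rw [Nat.card_zpowers, hz, hc])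
    rw [← hzN, (isOfFinOrder_of_finite (z : Q)).mem_zpowers_iff_mem_range_orderOf, hz] at ha
    simp [Finset.range_add_one, Finset.range_zero] at ha
    tauto
  have hcen : ∀ g : Q, g * z * g⁻¹ = z := fun g =>
    (hall _ (hN.conj_mem z z.2 g)).resolve_left fun h => hz1 (conj_eq_one_iff.1 h)
  have hzU : (z : Q) ∈ U := by
    have hsqs : ∀ x ∈ U ⊔ N, x * x = 1 := by
      intro x hx
      rw [← SetLike.mem_coe, Subgroup.mul_normal] at hx
      obtain ⟨u, hu, a, ha, rfl⟩ := hx
      dsimp only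
      rcases hall a ha with h | h
      · rw [h, mul_one]; exact hU.2 u hu
      · rw [h]
        have hc : u * z = z * u := mul_inv_eq_iff_eq_mul.1 (hcen u)
        rw [(show Commute (z : Q) u from hc.symm).mul_mul_mul_comm, hU.2 u hu, hzz, one_mul]
    have := Subgroup.eq_of_le_of_card_ge (le_sup_left : U ≤ U ⊔ N)
      (by rw [hU.1]; exact hY.card_le_four hsqs)
    rw [this]
    exact (le_sup_right : N ≤ U ⊔ N) z.2
  obtain ⟨u, hu, hu1, huz⟩ : ∃ u ∈ U, u ≠ 1 ∧ u ≠ z := by
    by_contra hno
    push Not at hno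
    have hs : Function.Surjective (fun i : Bool => if i then (⟨z, hzU⟩ : U) else 1) := fun x => by
      by_cases hx : (x : Q) = 1
      · exact ⟨false, Subtype.ext hx.symm⟩
      · exact ⟨true, Subtype.ext (hno x x.2 hx).symm⟩
    have := Nat.card_le_card_of_surjective _ hs
    rw [hU.1, Nat.card_eq_fintype_card, Fintype.card_bool] at this
    omega
  obtain ⟨g, -, -, hg⟩ := exists_conj_of_odd hU hn ho hne hzU hz1 hu hu1
  exact huz (hg.symm.trans (hcen g))

theorem abelian_case (hY : SylowCD Q) (hO : Cfsg.oddCore Q = ⊥) (h2 : ¬ IsPGroup 2 Q) (N : Subgroup Q)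
    [hN : N.Normal] (hN1 : N ≠ ⊥) (hNc : ∀ a ∈ N, ∀ b ∈ N, a * b = b * a)
    (hsq : ∀ a ∈ N, a * a = 1) : IsAlmostPSL Q := by
  classical
  haveI : Fact (Nat.Prime 2) := ⟨Nat.prime_two⟩
  obtain ⟨U, hU, n, hnU, hnodd, hnne⟩ : ∃ U : Subgroup Q, IsFour U ∧
      ∃ n ∈ Subgroup.normalizer (U : Set Q), Odd (orderOf n) ∧ ¬ ∀ x ∈ U, n * x = x * n := by
    by_contra hno
    apply h2
    intro x
    -- the odd part of `x` lies in the core
    refine ⟨(orderOf x).factorization 2, ?_⟩
    set y := x ^ (2 ^ (orderOf x).factorization 2)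
    have hy : y ∈ Cfsg.oddCore Q := by
      refine hY.odd_mem_oddCore (fun U hU n hn ho => ?_) ?_
      · by_contra hne
        exact hno ⟨U, hU, n, hn, ho, hne⟩
      · rw [orderOf_pow_of_dvd (by positivity) (Nat.ordProj_dvd _ _)]
        rw [← Nat.not_even_iff_odd, even_iff_two_dvd]
        exact Nat.not_dvd_ordCompl Nat.prime_two (orderOf_pos x).ne'
    rw [hO, Subgroup.mem_bot] at hy
    exact hy
  have hNp : IsPGroup 2 N := fun a => ⟨1, Subtype.ext (by simpa [pow_one, sq] using hsq a a.2)⟩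
  obtain ⟨j, hj⟩ := IsPGroup.iff_card.1 hNp
  have hle := hY.card_le_four hsq
  rw [hj] at hle
  obtain rfl : j = 2 := by
    rcases j with _ | _ | _ | j
    · exact absurd (Subgroup.card_eq_one.1 (by rw [hj]; rfl)) hN1
    · exact absurd (by rw [hj]; rfl) (no_normal_two hY hU hnU hnodd hnne N)
    · rfl
    · have hle' : 2 ^ (j + 3) ≤ 4 := hle
      have h8 : 8 ≤ 2 ^ (j + 3) := Nat.pow_le_pow_right two_pos (show 3 ≤ j + 3 by omega)
      omega
  have hN4 : IsFour N := ⟨hj, hsq⟩
  set C := Subgroup.centralizer (N : Set Q) with hC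
  haveI : C.Normal := Subgroup.normal_centralizer
  have hNC : N ≤ C := fun a ha => Subgroup.mem_centralizer_iff.2 fun b hb => hNc b hb a ha
  obtain ⟨T⟩ : Nonempty (Sylow 2 C) := inferInstance
  have hNT : N.subgroupOf C ≤ (T : Subgroup C) :=
    (Cores.le_pCore (hNp.of_equiv (Subgroup.subgroupOfEquivOfLe hNC).symm)).trans (Cores.pCore_le_sylow T)
  have hTc : Subgroup.normalizer ((T : Subgroup C) : Set C) ≤
      Subgroup.centralizer ((T : Subgroup C) : Set C) := by
    intro c _
    rw [Subgroup.mem_centralizer_iff]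
    intro t ht
    refine Subtype.ext ?_
    have htN : (t : Q) ∈ N := hY.mem_four hN4 (C := (T : Subgroup C).map C.subtype) (T.2.map _)
      (fun a ha => ⟨⟨a, hNC ha⟩, hNT (Subgroup.mem_subgroupOf.2 ha), rfl⟩)
      (Subgroup.map_subtype_le _) ⟨t, ht, rfl⟩
    exact Subgroup.mem_centralizer_iff.1 c.2 t htN
  have hCN : C = N := by
    refine le_antisymm ?_ hNC
    intro c hc
    set L := (MonoidHom.transferSylow T hTc).ker
    have hcomp := MonoidHom.ker_transferSylow_isComplement' T hTc
    have hLodd : Odd (Nat.card L) := by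
      rw [← hcomp.index_eq_card, ← Nat.not_even_iff_odd, even_iff_two_dvd]
      exact T.not_dvd_index
    have hL : L = ⊥ := by
      haveI := Cores.normal_map_subtype C (Cfsg.oddCore C)
      have h1 : (Cfsg.oddCore C).map C.subtype ≤ Cfsg.oddCore Q := Cores.le_oddCore (by
        rw [Subgroup.card_map_of_injective C.subtype_injective]; exact Cores.oddCore_odd)
      rw [hO, le_bot_iff, Subgroup.map_eq_bot_iff_of_injective _ C.subtype_injective] at h1
      exact le_bot_iff.1 (h1 ▸ Cores.le_oddCore hLodd)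
    have hTtop : (T : Subgroup C) = ⊤ := by
      rw [← Subgroup.isComplement'_bot_left]; rw [← hL]; exact hcomp
    exact hY.mem_four hN4 (C := C) (fun a => by
        obtain ⟨k, hk⟩ := T.2 ⟨a, hTtop ▸ Subgroup.mem_top a⟩
        exact ⟨k, congrArg Subtype.val hk⟩) hNC le_rfl hc
  let ψ : Q →* Equiv.Perm {x : Q // x ∈ N ∧ x ≠ 1} :=
    (autPerm N).comp ((Subgroup.topEquiv.symm.trans
      (MulEquiv.subgroupCongr (Subgroup.normalizer_eq_top_iff.2 hN).symm)).toMonoidHom)
  have hker : ψ.ker = N := by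
    ext q
    rw [MonoidHom.mem_ker]
    show (autPerm N) _ = 1 ↔ _
    rw [← MonoidHom.mem_ker, ker_autPerm, Subgroup.mem_subgroupOf, ← hC, hCN]
    rfl
  have hidx : ψ.ker.index ∣ 6 := by
    rw [Subgroup.index_ker]
    refine (Subgroup.card_subgroup_dvd_card _).trans ?_
    rw [Nat.card_perm, card_nontriv hN4]
    rfl
  have hcard := ψ.ker.card_mul_index
  rw [hker, hj] at hcard
  rw [hker] at hidx
  have h3n : 3 ∣ Nat.card Q := by
    have h1 : orderOf n ≠ 1 := fun h => hnne (by rw [orderOf_eq_one_iff.1 h]; simp)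
    have h24 : orderOf n ∣ 4 * 6 := (orderOf_dvd_natCard n).trans (hcard ▸ Nat.mul_dvd_mul_left 4 hidx)
    have h3 : orderOf n ∣ 3 :=
      (Nat.Coprime.pow_right 3 (Nat.coprime_two_right.2 hnodd)).dvd_of_dvd_mul_left
        (by simpa using h24)
    rcases (Nat.dvd_prime Nat.prime_three).1 h3 with h | h
    · exact absurd h h1
    · exact h ▸ orderOf_dvd_natCard n
  have hno3 : ∀ M : Subgroup Q, M.Normal → Nat.card M ≠ 3 := fun M hM hc => by
    haveI := hM
    have := Cores.le_oddCore (N := M) (by rw [hc]; decide)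
    rw [hO, le_bot_iff] at this
    rw [this, Subgroup.card_bot] at hc
    omega
  have hno2 : ∀ M : Subgroup Q, M.Normal → Nat.card M ≠ 2 := fun M hM =>
    haveI := hM; no_normal_two hY hU hnU hnodd hnne M
  have h6 := Nat.le_of_dvd (by norm_num) hidx
  have hpos : 0 < Nat.card Q := Nat.card_pos
  have hor : Nat.card Q = 12 ∨ Nat.card Q = 24 := by
    interval_cases hh : N.index <;> omega
  rcases hor with h | h
  · obtain ⟨e⟩ := DicksonId.nonempty_alt_four h hno3 hno2
    exact almost_of_alt_four e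
  · obtain ⟨e⟩ := DicksonId.nonempty_perm_four h hno3 hno2
    exact almost_of_perm_four e

theorem simple_case (hY : HasDihedralSylow Q) (N : Subgroup Q) [N.Normal] (hk : IsKnownD N)
    (hc : Subgroup.centralizer (N : Set Q) = ⊥) :
    IsAlmostPSL Q ∨ Nonempty (Q ≃* alternatingGroup (Fin 7)) := by
  classical
  rcases hk with ⟨F, iF, iF', hF, -, ⟨f⟩⟩ | ⟨⟨f⟩⟩
  · left
    refine ⟨F, iF, iF', hF, (Model.autHom N f).range, ?_,
      ⟨MonoidHom.ofInjective (Model.autHom_injective N f hc)⟩⟩
    rintro _ ⟨z, rfl⟩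
    exact ⟨f.symm z, by rw [Model.autHom_of_mem, f.apply_symm_apply]⟩
  · right
    have h4 : 4 ≤ Fintype.card (Fin 7) := by decide
    have h6 : Fintype.card (Fin 7) ≠ 6 := by decide
    let π : Q →* Equiv.Perm (Fin 7) :=
      (Alternating.autEquiv h4 h6).symm.toMonoidHom.comp (Model.autHom N f)
    have hπ : Function.Injective π :=
      (Alternating.autEquiv h4 h6).symm.injective.comp (Model.autHom_injective N f hc)
    have hπL : ∀ a : alternatingGroup (Fin 7), π (f.symm a : Q) = (a : Equiv.Perm (Fin 7)) := by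
      intro a
      show (Alternating.autEquiv h4 h6).symm (Model.autHom N f (f.symm a : Q)) = _
      rw [Model.autHom_of_mem, MulEquiv.apply_symm_apply, MulEquiv.symm_apply_eq]
      refine MulEquiv.ext fun b => Subtype.ext ?_
      change ((a * b * a⁻¹ : alternatingGroup (Fin 7)) : Equiv.Perm (Fin 7)) =
        (MulAut.conjNormal (a : Equiv.Perm (Fin 7)) b : Equiv.Perm (Fin 7))
      rw [MulAut.conjNormal_apply]
      simp
    have hsign : ∀ x, Equiv.Perm.sign (π x) = 1 := by
      intro x
      by_contra hx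
      have hodd : Equiv.Perm.sign (π x) = -1 := (Int.units_eq_one_or _).resolve_left hx
      have hsurj : ∀ p : Equiv.Perm (Fin 7), ∃ y, π y = p := by
        intro p
        by_cases hp : Equiv.Perm.sign p = 1
        · exact ⟨_, hπL ⟨p, Equiv.Perm.mem_alternatingGroup.2 hp⟩⟩
        · have hp' : Equiv.Perm.sign p = -1 := (Int.units_eq_one_or _).resolve_left hp
          refine ⟨(f.symm ⟨p * (π x)⁻¹, Equiv.Perm.mem_alternatingGroup.2 ?_⟩ : Q) * x, ?_⟩
          · rw [map_mul, map_inv, hp', hodd]; decide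
          · rw [map_mul, hπL]; exact inv_mul_cancel_right p (π x)
      obtain ⟨w, hw⟩ := hsurj (Equiv.swap 0 1)
      obtain ⟨a, ha⟩ := hsurj (Equiv.swap 2 3)
      obtain ⟨b, hb⟩ := hsurj (Equiv.swap 4 5)
      refine Model.no_eight hY (w := w) (a := a) (b := b) (hπ ?_) (hπ ?_) (hπ ?_) (hπ ?_) (hπ ?_) (hπ ?_)
        (fun h => ?_) (fun h => ?_) (fun h => ?_) (fun h => ?_) (fun h => ?_) (fun h => ?_)
        (fun h => ?_)
      all_goals first
        | (rw [map_mul, hw, map_one]; decide)
        | (rw [map_mul, ha, map_one]; decide)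
        | (rw [map_mul, hb, map_one]; decide)
        | (simp only [map_mul, hw, ha, hb]; decide)
        | (replace h := congrArg π h; simp only [map_mul, map_one, hw, ha, hb] at h; revert h; decide)
    have hr : π.range = alternatingGroup (Fin 7) := by
      refine le_antisymm ?_ fun a ha => ⟨_, hπL ⟨a, ha⟩⟩
      rintro _ ⟨x, rfl⟩
      exact Equiv.Perm.mem_alternatingGroup.2 (hsign x)
    exact ⟨(MonoidHom.ofInjective hπ).trans (MulEquiv.subgroupCongr hr)⟩

end Cases

/-- A group with trivial odd core and dihedral Sylow 2-subgroups is a 2-group, lies between some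
`PSL(2,q)` and its automorphism group, or is `A₇`. -/
theorem dihedralAlmost (hM : PropMain.{u}) (Q : Type u) [Group Q] [Finite Q] (hO : Cfsg.oddCore Q = ⊥)
    (S : Sylow 2 Q) (n : ℕ) (hn : 2 ≤ n) (hS : Nonempty ((S : Subgroup Q) ≃* DihedralGroup n)) :
    IsPGroup 2 Q ∨ IsAlmostPSL Q ∨ Nonempty (Q ≃* alternatingGroup (Fin 7)) := by
  classical
  haveI : Fact (Nat.Prime 2) := ⟨Nat.prime_two⟩
  by_cases h2 : IsPGroup 2 Q
  · exact Or.inl h2
  right
  have hdQ : HasDihedralSylow Q := fun T => ⟨n, hn, hS.map fun e => (Sylow.equiv T S).trans e⟩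
  have hY := hdQ.sylowCD
  haveI : Nontrivial Q := by
    by_contra hnt
    rw [not_nontrivial_iff_subsingleton] at hnt
    exact h2 fun x => ⟨0, Subsingleton.elim _ _⟩
  obtain ⟨N, hN, hNne, hmin⟩ := Cores.MinNormal.exists_minimal (G := Q)
  haveI := hN
  have hNeven : ¬ Odd (Nat.card N) := fun ho => hNne (le_bot_iff.1 (hO ▸ Cores.le_oddCore ho))
  by_cases hNs : ⁅N, N⁆ = ⊥
  · left
    have hNc : ∀ a ∈ N, ∀ b ∈ N, a * b = b * a := fun a ha b hb =>
      (Subgroup.mem_centralizer_iff.1 (Subgroup.commutator_eq_bot_iff_le_centralizer.1 hNs hb) a ha)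
    let E : Subgroup Q :=
      { carrier := {a | a ∈ N ∧ a * a = 1}
        one_mem' := ⟨one_mem N, one_mul 1⟩
        mul_mem' := fun {a b} ha hb => ⟨mul_mem ha.1 hb.1, by
          rw [(show Commute b a from hNc b hb.1 a ha.1).mul_mul_mul_comm, ha.2, hb.2, one_mul]⟩
        inv_mem' := fun {a} ha => ⟨inv_mem ha.1, by rw [← mul_inv_rev, ha.2, inv_one]⟩ }
    haveI hEn : E.Normal := ⟨fun a ha g => ⟨hN.conj_mem a ha.1 g, by
      rw [conj_mul, ha.2, mul_one, mul_inv_cancel]⟩⟩
    rcases hmin E hEn (fun a ha => ha.1) with h | h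
    · exfalso
      obtain ⟨t, ht⟩ := exists_prime_orderOf_dvd_card' (G := N) 2
        (even_iff_two_dvd.1 (Nat.not_odd_iff_even.1 hNeven))
      have hmem : (t : Q) ∈ E := ⟨t.2, by
        have := pow_orderOf_eq_one (t : Q)
        rwa [Subgroup.orderOf_coe, ht, sq] at this⟩
      rw [h, Subgroup.mem_bot] at hmem
      rw [← Subgroup.orderOf_coe, hmem, orderOf_one] at ht
      omega
    · exact abelian_case hY hO h2 N hNne hNc fun a ha => (h.symm ▸ ha : a ∈ E).2
  · have hNN : ⁅N, N⁆ = N := (hmin _ inferInstance (Subgroup.commutator_le_right N N)).resolve_left hNs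
    haveI : Group.IsPerfect N := ⟨Subgroup.map_injective N.subtype_injective (by
      rw [Subgroup.map_subtype_commutator, hNN, ← MonoidHom.range_eq_map, Subgroup.range_subtype])⟩
    haveI : Nontrivial N := (Subgroup.nontrivial_iff_ne_bot N).2 hNne
    have hON : Cfsg.oddCore N = ⊥ := by
      haveI := Cores.normal_map_subtype N (Cfsg.oddCore N)
      have h1 : (Cfsg.oddCore N).map N.subtype ≤ Cfsg.oddCore Q := Cores.le_oddCore (by
        rw [Subgroup.card_map_of_injective N.subtype_injective]; exact Cores.oddCore_odd)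
      rw [hO, le_bot_iff, Subgroup.map_eq_bot_iff_of_injective _ N.subtype_injective] at h1
      exact h1
    obtain ⟨hsimp, hnaN, hdN⟩ := (hY.subgroup N).simple_of_perfect hON
    haveI := hsimp
    have hCN : Subgroup.centralizer (N : Set Q) = ⊥ := by
      set C := Subgroup.centralizer (N : Set Q)
      haveI : C.Normal := Subgroup.normal_centralizer
      have hCi : C ⊓ N = ⊥ := by
        rcases hmin (C ⊓ N) inferInstance inf_le_right with h | h
        · exact h
        · exfalso
          refine hnaN ⟨⟨fun a b => Subtype.ext ?_⟩⟩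
          exact Subgroup.mem_centralizer_iff.1 ((h.ge b.2).1) a a.2
      by_contra hne
      have hCe : ¬ Odd (Nat.card C) := fun ho => hne (le_bot_iff.1 (hO ▸ Cores.le_oddCore ho))
      obtain ⟨z, hz⟩ := exists_prime_orderOf_dvd_card' (G := C) 2
        (even_iff_two_dvd.1 (Nat.not_odd_iff_even.1 hCe))
      rw [← Subgroup.orderOf_coe] at hz
      obtain ⟨T⟩ : Nonempty (Sylow 2 N) := inferInstance
      obtain ⟨m, hm, ⟨e⟩⟩ := hdN T
      obtain ⟨R, -, hR, -, -⟩ := (Coords.ofEquiv e).exists_four_of_le hm 0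
      obtain ⟨a, ha, ha1⟩ := R.bot_or_exists_ne_one.resolve_left (fun h => by
        have := hR.1; rw [h, Subgroup.card_bot] at this; omega)
      obtain ⟨b, hb, hb1, hba⟩ : ∃ b ∈ R, b ≠ 1 ∧ b ≠ a := by
        by_contra hno
        push Not at hno
        have hs : Function.Surjective (fun i : Bool => if i then (⟨a, ha⟩ : R) else 1) := fun x => by
          by_cases hx : (x : N) = 1
          · exact ⟨false, Subtype.ext hx.symm⟩
          · exact ⟨true, Subtype.ext (hno x x.2 hx).symm⟩
        have := Nat.card_le_card_of_surjective _ hs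
        rw [hR.1, Nat.card_eq_fintype_card, Fintype.card_bool] at this
        omega
      have hz1 : (z : Q) ≠ 1 := fun h => by rw [h, orderOf_one] at hz; omega
      have hzN : ∀ x : N, (z : Q) ≠ x := fun x h => hz1 (by
        have : (z : Q) ∈ C ⊓ N := ⟨z.2, h ▸ x.2⟩
        rwa [hCi, Subgroup.mem_bot] at this)
      exact Model.no_eight hdQ (w := (z : Q)) (a := (a : Q)) (b := (b : Q))
        (by rw [← pow_two, ← hz, pow_orderOf_eq_one]) (congrArg Subtype.val (hR.2 a ha))
        (congrArg Subtype.val (hR.2 b hb)) ((Subgroup.mem_centralizer_iff.1 z.2 a a.2).symm)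
        ((Subgroup.mem_centralizer_iff.1 z.2 b b.2).symm) (congrArg Subtype.val (hR.comm ha hb))
        (fun h => ha1 (Subtype.ext h)) (fun h => hb1 (Subtype.ext h))
        (fun h => hba (Subtype.ext h.symm)) hz1 (hzN a) (hzN b) (hzN (a * b))
    exact simple_case hdQ N (known_of_propMain hM N hsimp hnaN hdN) hCN

end Cfsg.Agent.Lib.GWConsumers70
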