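import Mathlib

/-!
# Small exclusions: two independent elements inverted by one involution in `S₄` and `A₅`
-/

set_option autoImplicit false
set_option synthInstance.maxSize 4000
set_option synthInstance.maxHeartbeats 400000

namespace Cfsg.Agent.Lib.GWConsumers70

theorem perm_four_words : ∀ a : Equiv.Perm (Fin 4), a ^ 3 = 1 → a ≠ 1 → ∀ x : Equiv.Perm (Fin 4),
    x * x = 1 → x * a * x = a⁻¹ → ∀ b : Equiv.Perm (Fin 4), b ^ 3 = 1 → x * b * x = b⁻¹ →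
    b ≠ 1 → b ≠ a → b ≠ a⁻¹ → ¬ ((a * b) ^ 3 = 1 ↔ (a * b⁻¹) ^ 3 = 1) := by
  decide +kernel

theorem alt_five_words : ∀ a : alternatingGroup (Fin 5), a ^ 5 = 1 → a ≠ 1 → ∀ x : alternatingGroup (Fin 5),
    x * x = 1 → x * a * x = a⁻¹ → ∀ b : alternatingGroup (Fin 5), b ^ 5 = 1 → x * b * x = b⁻¹ →
    b ≠ 1 → b ≠ a → b ≠ a⁻¹ → b ≠ a * a → b ≠ (a * a)⁻¹ →
    ((a * b) ^ 2 = 1 ↔ (a * b⁻¹) ^ 2 = 1) → ¬ ((a * b) ^ 3 = 1 ↔ (a * b⁻¹) ^ 3 = 1) := by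
  decide +kernel

end Cfsg.Agent.Lib.GWConsumers70
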