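import Cfsg.Agent.Lib.DicksonId.Consequences
import Cfsg.Agent.Lib.DicksonId.PGLBasic
import Cfsg.Agent.Lib.DicksonId.PGLClass
import Cfsg.Agent.Lib.DicksonId.PGLDihedral
import Cfsg.Agent.Lib.GWConsumers70.Small
import Cfsg.Agent.Lib.GorensteinWalter.Sylow

/-!
# Generation of `PSL(2, q)` by two tori inverted by a common involution
-/

set_option autoImplicit false
set_option linter.unusedSectionVars false
set_option linter.style.haveILetI false

namespace Cfsg.Agent.Lib.GWConsumers70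

open Matrix Cfsg.Agent.Lib.DicksonId Cfsg.Agent.Lib.Linear

section Groups

variable {G : Type*} [Group G] [Finite G]

/-- In a cyclic group two elements of the same order generate the same subgroup. -/
theorem mem_zpowers_of_isCyclic (C : Subgroup G) [IsCyclic C] {a b : G} (ha : a ∈ C) (hb : b ∈ C)
    (h : orderOf b = orderOf a) : b ∈ Subgroup.zpowers a := by
  classical
  haveI := Fintype.ofFinite C
  set a' : C := ⟨a, ha⟩
  set b' : C := ⟨b, hb⟩
  suffices hsuff : b' ∈ Subgroup.zpowers a' by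
    obtain ⟨i, hi⟩ := hsuff
    exact ⟨i, by simpa [a', b'] using congrArg Subtype.val hi⟩
  by_contra hne
  have hm : orderOf b' = orderOf a' := by simp [a', b', Subgroup.orderOf_mk, h]
  have h1 := IsCyclic.card_pow_eq_one_le (α := C) (n := orderOf a') (orderOf_pos a')
  have h2 : insert b' (Subgroup.zpowers a' : Set C).toFinset ⊆
      Finset.univ.filter fun z : C => z ^ orderOf a' = 1 := by
    intro z hz
    simp only [Finset.mem_insert, Set.mem_toFinset, SetLike.mem_coe] at hz
    simp only [Finset.mem_filter, Finset.mem_univ, true_and]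
    rcases hz with rfl | ⟨i, rfl⟩
    · rw [← hm, pow_orderOf_eq_one]
    · show (a' ^ i) ^ orderOf a' = 1
      rw [← zpow_natCast, zpow_comm, zpow_natCast, pow_orderOf_eq_one, _root_.one_zpow]
  have h3 := Finset.card_le_card h2
  rw [Finset.card_insert_of_notMem (by simpa using hne), Set.toFinset_card,
    ← Nat.card_eq_fintype_card, SetLike.coe_sort_coe, Nat.card_zpowers] at h3
  omega

/-- `⟨y⟩` extended by an element inverting `y`. -/
def invExt (x y : G) (hx : x * x = 1) (hxy : x * y * x = y⁻¹) : Subgroup G where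
  carrier := {g | g ∈ Subgroup.zpowers y ∨ x * g ∈ Subgroup.zpowers y}
  one_mem' := Or.inl (one_mem _)
  inv_mem' := by
    intro g hg
    have hconj : ∀ z ∈ Subgroup.zpowers y, x * z * x = z⁻¹ := by
      rintro _ ⟨i, rfl⟩
      have : (MulAut.conj x) (y ^ i) = ((MulAut.conj x) y) ^ i := map_zpow _ _ _
      rw [MulAut.conj_apply, MulAut.conj_apply, inv_eq_of_mul_eq_one_right hx, hxy] at this
      show x * y ^ i * x = (y ^ i)⁻¹
      rw [this, _root_.inv_zpow]
    rcases hg with hg | hg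
    · exact Or.inl (inv_mem hg)
    · refine Or.inr ?_
      have hxg := hconj _ hg
      have h2 : x * g⁻¹ = x * g := by
        have e1 : g * x = (x * g)⁻¹ := by
          rw [← hxg, ← mul_assoc x x g, hx, one_mul]
        have e2 : (g * x)⁻¹ = x * g⁻¹ := by rw [_root_.mul_inv_rev, inv_eq_of_mul_eq_one_right hx]
        rw [← e2, e1, inv_inv]
      exact h2.symm ▸ hg
  mul_mem' := by
    intro g k hg hk
    have hconj : ∀ z ∈ Subgroup.zpowers y, x * z * x = z⁻¹ := by
      rintro _ ⟨i, rfl⟩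
      have : (MulAut.conj x) (y ^ i) = ((MulAut.conj x) y) ^ i := map_zpow _ _ _
      rw [MulAut.conj_apply, MulAut.conj_apply, inv_eq_of_mul_eq_one_right hx, hxy] at this
      show x * y ^ i * x = (y ^ i)⁻¹
      rw [this, _root_.inv_zpow]
    rcases hg with hg | hg <;> rcases hk with hk | hk
    · exact Or.inl (mul_mem hg hk)
    · refine Or.inr ?_
      have : x * (g * k) = x * g * x * (x * k) := by rw [mul_assoc (x * g) x, ← mul_assoc x x k, hx, one_mul, mul_assoc]
      rw [this, hconj g hg]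
      exact mul_mem (inv_mem hg) hk
    · refine Or.inr ?_
      rw [← mul_assoc]; exact mul_mem hg hk
    · refine Or.inl ?_
      have : g * k = x * (x * g) * x * (x * k) := by
        rw [mul_assoc (x * (x * g)) x, ← mul_assoc x x k, hx, one_mul, ← mul_assoc x x g, hx, one_mul]
      rw [this, hconj _ hg]
      exact mul_mem (inv_mem hg) hk

theorem not_dvd_card_invExt {p : ℕ} [hp : Fact p.Prime] (hp2 : p ≠ 2) {x y : G} (hx : x * x = 1)
    (hxy : x * y * x = y⁻¹) (hpy : ¬ p ∣ orderOf y) : ¬ p ∣ Nat.card (invExt x y hx hxy) := by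
  intro hd
  obtain ⟨z, hz⟩ := exists_prime_orderOf_dvd_card' p hd
  rw [← Subgroup.orderOf_coe] at hz
  rcases z.2 with h | h
  · exact hpy (hz ▸ orderOf_dvd_of_mem_zpowers h)
  · have hsq : (z : G) * z = 1 := by
      obtain ⟨i, hi⟩ := h
      have hzi : (z : G) = x * y ^ i := by
        rw [show y ^ i = x * (z : G) from hi, ← mul_assoc, hx, one_mul]
      have hc : x * y ^ i * x = (y ^ i)⁻¹ := by
        have : (MulAut.conj x) (y ^ i) = ((MulAut.conj x) y) ^ i := map_zpow _ _ _
        rw [MulAut.conj_apply, MulAut.conj_apply, inv_eq_of_mul_eq_one_right hx, hxy] at this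
        rw [this, _root_.inv_zpow]
      rw [hzi, ← mul_assoc, hc, inv_mul_cancel]
    have h2 : p ∣ 2 := hz ▸ orderOf_dvd_of_pow_eq_one (by rw [pow_two, hsq])
    exact hp2 ((Nat.prime_dvd_prime_iff_eq hp.out Nat.prime_two).1 h2)

theorem sq_one_of_odd_commute {x y : G} (hx : x * x = 1) (hxy : x * y * x = y⁻¹) (h : x * y = y * x)
    (hodd : Odd (orderOf y)) : y = 1 := by
  rw [h, mul_assoc, hx, mul_one] at hxy
  have h2 : orderOf y ∣ 2 := orderOf_dvd_of_pow_eq_one (by
    rw [pow_two]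
    nth_rewrite 2 [hxy]
    exact mul_inv_cancel y)
  rcases (Nat.dvd_prime Nat.prime_two).1 h2 with h1 | h1
  · exact orderOf_eq_one_iff.1 h1
  · rw [h1] at hodd; exact absurd hodd (by decide)

theorem false_of_fixed_inverted {β : MulAut G} {ya yb : G} (h : yb ∈ Subgroup.zpowers ya)
    (ha : β ya = ya) (hb : β yb = yb⁻¹) (hodd : Odd (orderOf yb)) : yb = 1 := by
  obtain ⟨i, rfl⟩ := h
  simp only [map_zpow, ha] at hb
  have h2 : orderOf (ya ^ i) ∣ 2 := orderOf_dvd_of_pow_eq_one (by
    rw [pow_two]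
    nth_rewrite 2 [hb]
    exact mul_inv_cancel _)
  rcases (Nat.dvd_prime Nat.prime_two).1 h2 with h1 | h1
  · exact orderOf_eq_one_iff.1 h1
  · rw [h1] at hodd; exact absurd hodd (by decide)

theorem rot_of_odd {k : ℕ} {N : Subgroup G} (e : N ≃* DihedralGroup k) {y : G} (hy : y ∈ N)
    (ho : Odd (orderOf y)) : e ⟨y, hy⟩ ∈ Subgroup.zpowers (DihedralGroup.r (1 : ZMod k)) := by
  rcases hq : e ⟨y, hy⟩ with i | i
  · exact GorensteinWalter.r_mem i
  · exfalso
    have h2 := e.orderOf_eq ⟨y, hy⟩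
    rw [hq, DihedralGroup.orderOf_sr, Subgroup.orderOf_mk] at h2
    rw [← h2] at ho
    exact absurd ho (by decide)

theorem mem_of_sq_index_two {H : Subgroup G} (hH : H.index = 2) {g : G} (hg : Odd (orderOf g)) :
    g ∈ H := by
  haveI := Subgroup.normal_of_index_eq_two hH
  obtain ⟨k, hk⟩ := hg
  have : g = (g ^ (k + 1)) ^ 2 := by
    rw [← pow_mul, show (k + 1) * 2 = orderOf g + 1 by omega, pow_succ, pow_orderOf_eq_one, one_mul]
  rw [this]
  exact Subgroup.sq_mem_of_index_two hH _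

theorem eq_three_of_dvd {r : ℕ} (h : r ∣ 24) (ho : Odd r) (h1 : r ≠ 1) : r = 3 := by
  have key : ∀ s < 25, s ∣ 24 → s % 2 = 1 → s ≠ 1 → s = 3 := by decide
  exact key r (by have := Nat.le_of_dvd (by norm_num) h; omega) h (Nat.odd_iff.1 ho) h1

theorem eq_of_dvd_six_five {r : ℕ} (h : r ∣ 6 ∨ r ∣ 5) (ho : Odd r) (h1 : r ≠ 1) : r = 3 ∨ r = 5 := by
  have key : ∀ s < 7, (s ∣ 6 ∨ s ∣ 5) → s % 2 = 1 → s ≠ 1 → s = 3 ∨ s = 5 := by decide
  refine key r ?_ h (Nat.odd_iff.1 ho) h1
  rcases h with h | h <;> have := Nat.le_of_dvd (by norm_num) h <;> omega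

end Groups

section PSL

variable {F : Type*} [Field F] [Fintype F] {p : ℕ} [hp : Fact p.Prime] [CharP F p]

local notation "PSL2" => Matrix.ProjectiveSpecialLinearGroup (Fin 2) F

/-- An odd order prime to `p` of size about half `q` is the odd one of `(q ± 1) / 2`. -/
theorem order_cases (hp2 : p ≠ 2) (h5 : 5 ≤ Fintype.card F) {y : PSL2} (hy : ¬ p ∣ orderOf y)
    (ho : Odd (orderOf y)) (hl : Fintype.card F - 1 ≤ 2 * orderOf y) :
    (2 * orderOf y = Fintype.card F + 1 ∧ Fintype.card F % 4 = 1) ∨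
      (2 * orderOf y = Fintype.card F - 1 ∧ Fintype.card F % 4 = 3) := by
  obtain ⟨f, hf, hq⟩ := exists_card_eq_pow (F := F) p
  have hodd : Odd (Fintype.card F) := hq ▸ (hp.out.odd_of_ne_two hp2).pow
  obtain ⟨m, hm⟩ := ho
  obtain ⟨r, hr⟩ := hodd
  have hd := orderOf_dvd_of_not_dvd (p := p) hy
  rw [gcd_two_eq (p := p), if_neg hp2] at hd
  rcases hd with h | h
  · left
    obtain ⟨c, hc⟩ := h
    have h2 : (Fintype.card F + 1) / 2 = r + 1 := by omega
    rw [h2] at hc
    rcases c with _ | _ | c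
    · omega
    · omega
    · have := Nat.mul_le_mul_left (orderOf y) (show 2 ≤ c + 1 + 1 by omega)
      omega
  · right
    obtain ⟨c, hc⟩ := h
    have h2 : (Fintype.card F - 1) / 2 = r := by omega
    rw [h2] at hc
    rcases c with _ | _ | c
    · omega
    · omega
    · have := Nat.mul_le_mul_left (orderOf y) (show 2 ≤ c + 1 + 1 by omega)
      omega

theorem card_psl_eq_of_card {K : Type*} [Field K] [Fintype K] [CharP K p]
    (h : Fintype.card K = Fintype.card F) :
    Nat.card (Matrix.ProjectiveSpecialLinearGroup (Fin 2) K) = Nat.card PSL2 := by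
  have h1 := card_PSL_mul (F := K) (p := p)
  have h2 := card_PSL_mul (F := F) (p := p)
  rw [h, ← h2] at h1
  exact Nat.eq_of_mul_eq_mul_left (Nat.gcd_pos_of_pos_left _ two_pos) h1

theorem orderOf_lt_of_subfield (hp2 : p ≠ 2) {K : Type*} [Field K] [Fintype K] [CharP K p]
    {z : Matrix.ProjectiveSpecialLinearGroup (Fin 2) K} (hy : ¬ p ∣ orderOf z) :
    2 * orderOf z ≤ Fintype.card K + 1 := by
  obtain ⟨f, hf, hq⟩ := exists_card_eq_pow (F := K) p
  have hodd : Odd (Fintype.card K) := hq ▸ (hp.out.odd_of_ne_two hp2).pow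
  obtain ⟨r, hr⟩ := hodd
  have h1 := Fintype.one_lt_card (α := K)
  have hd := orderOf_dvd_of_not_dvd (p := p) hy
  rw [gcd_two_eq (p := p), if_neg hp2] at hd
  rcases hd with h | h <;> have := Nat.le_of_dvd (by omega) h <;> omega

theorem subfield_top (hp2 : p ≠ 2) (h5 : 5 ≤ Fintype.card F) {N : Subgroup PSL2} {k : ℕ}
    (hN : IsSubfieldGroup p N k) {y : PSL2} (hy : y ∈ N) (hpy : ¬ p ∣ orderOf y) (ho : Odd (orderOf y))
    (hl : Fintype.card F - 1 ≤ 2 * orderOf y) : N = ⊤ := by
  have hk := hN.1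
  obtain ⟨m, hm, he⟩ := hN.nonempty_equiv
  letI : Fintype (GaloisField p k) := Fintype.ofFinite _
  haveI : Finite (Matrix.ProjGenLinGroup (Fin 2) (GaloisField p k)) :=
    Finite.of_surjective Matrix.ProjGenLinGroup.mk Matrix.ProjGenLinGroup.mk_surjective
  rw [Nat.card_eq_fintype_card] at hm
  have hpK : p ≤ Fintype.card (GaloisField p k) := by
    rw [← Nat.card_eq_fintype_card, GaloisField.card p k hk.ne']
    exact Nat.le_self_pow hk.ne' p
  have hp3 : 3 ≤ p := by have := hp.out.two_le; omega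
  have hcase : Fintype.card (GaloisField p k) = Fintype.card F ∨
      Fintype.card (GaloisField p k) ^ 2 ≤ Fintype.card F := by
    rcases m with _ | _ | m
    · simp at hm; omega
    · left; simpa using hm
    · right; rw [← hm]; exact Nat.pow_le_pow_right (by omega) (by omega)
  rcases hcase with hc | hc
  · apply Subgroup.eq_top_of_card_eq
    rcases he with ⟨⟨e⟩⟩ | ⟨⟨e⟩⟩
    · rw [Nat.card_congr e.toEquiv, card_psl_eq_of_card (p := p) hc]
    · exfalso
      have h1 := Nat.card_congr e.toEquiv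
      rw [card_pgl_eq (p := p) hp2, card_psl_eq_of_card (p := p) hc] at h1
      have h2 := Subgroup.card_le_card_group N
      have h3 : 0 < Nat.card PSL2 := Nat.card_pos
      omega
  exfalso
  have key : 2 * orderOf y ≤ Fintype.card (GaloisField p k) + 1 := by
    rcases he with ⟨⟨e⟩⟩ | ⟨⟨e⟩⟩
    · have h1 : orderOf (e ⟨y, hy⟩) = orderOf y := by rw [e.orderOf_eq, Subgroup.orderOf_mk]
      rw [← h1]
      exact orderOf_lt_of_subfield hp2 (by rwa [h1])
    · have h1 : orderOf (e ⟨y, hy⟩) = orderOf y := by rw [e.orderOf_eq, Subgroup.orderOf_mk]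
      have hmem := mem_of_sq_index_two (index_imSL (F := GaloisField p k) (p := p) hp2)
        (g := e ⟨y, hy⟩) (by rwa [h1])
      rw [imSL_eq] at hmem
      obtain ⟨z, hz⟩ := hmem
      rw [← hz, orderOf_injective _ Matrix.ProjectiveSpecialLinearGroup.toPGL_injective] at h1
      rw [← h1]
      exact orderOf_lt_of_subfield hp2 (by rwa [h1])
  have hl' : Fintype.card F ≤ 2 * orderOf y + 1 := by omega
  nlinarith [key, hl', hc, hpK, hp3]

set_option maxHeartbeats 1000000 in
/-- Two tori inverted by one involution and separated by an automorphism generate `PSL(2, q)`. -/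
theorem generate (hp2 : p ≠ 2) (h5 : 5 ≤ Fintype.card F) {x ya yb : PSL2} (β : MulAut PSL2)
    (hx : x * x = 1) (hxa : x * ya * x = ya⁻¹) (hxb : x * yb * x = yb⁻¹)
    (hβa : β ya = ya) (hβb : β yb = yb⁻¹) (hpa : ¬ p ∣ orderOf ya) (hpb : ¬ p ∣ orderOf yb)
    (hoa : Odd (orderOf ya)) (hob : Odd (orderOf yb))
    (hla : Fintype.card F - 1 ≤ 2 * orderOf ya) (hlb : Fintype.card F - 1 ≤ 2 * orderOf yb) :
    Subgroup.closure ({x, ya, yb} : Set PSL2) = ⊤ := by
  classical
  set N := Subgroup.closure ({x, ya, yb} : Set PSL2) with hNdef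
  have hxN : x ∈ N := Subgroup.subset_closure (by simp)
  have haN : ya ∈ N := Subgroup.subset_closure (by simp)
  have hbN : yb ∈ N := Subgroup.subset_closure (by simp)
  have ha1 : ya ≠ 1 := by
    intro h; rw [h, orderOf_one] at hla; omega
  have hb1 : yb ≠ 1 := by
    intro h; rw [h, orderOf_one] at hlb; omega
  have hmab : orderOf yb = orderOf ya := by
    rcases order_cases hp2 h5 hpa hoa hla with h | h <;>
      rcases order_cases hp2 h5 hpb hob hlb with h' | h' <;> omega
  have hab : yb ∉ Subgroup.zpowers ya := fun h => hb1 (false_of_fixed_inverted h hβa hβb hob)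
  have hβ : ∀ {u v : PSL2} (n : ℕ), β u = v → (u ^ n = 1 ↔ v ^ n = 1) := by
    intro u v n h
    rw [← h, ← map_pow, MulEquiv.map_eq_one_iff]
  have hw1 : β (ya * yb) = ya * yb⁻¹ := by rw [map_mul, hβa, hβb]
  -- exclusion data shared by the small groups
  have small : ∀ {H : Type} [Group H] (e : N ≃* H) (r : ℕ), orderOf ya = r → ∀ n : ℕ,
      let A := e ⟨ya, haN⟩; let X := e ⟨x, hxN⟩; let B := e ⟨yb, hbN⟩
      A ^ r = 1 ∧ A ≠ 1 ∧ X * X = 1 ∧ X * A * X = A⁻¹ ∧ B ^ r = 1 ∧ X * B * X = B⁻¹ ∧ B ≠ 1 ∧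
        (∀ i : ℤ, B ≠ A ^ i) ∧ ((A * B) ^ n = 1 ↔ (A * B⁻¹) ^ n = 1) := by
    intro H _ e r hr n
    have inj : ∀ {u : PSL2} (hu : u ∈ N), e ⟨u, hu⟩ = 1 ↔ u = 1 := by
      intro u hu; rw [MulEquiv.map_eq_one_iff]; exact ⟨congrArg Subtype.val, fun h => Subtype.ext h⟩
    refine ⟨?_, fun h => ha1 ((inj haN).1 h), ?_, ?_, ?_, ?_, fun h => hb1 ((inj hbN).1 h), fun i h => ?_, ?_⟩
    · rw [← map_pow]; exact (inj _).2 (by rw [← hr, pow_orderOf_eq_one])
    · rw [← map_mul]; exact (inj _).2 hx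
    · rw [← map_mul, ← map_mul, ← map_inv]; exact congrArg e (Subtype.ext hxa)
    · rw [← map_pow]; exact (inj _).2 (by rw [← hr, ← hmab, pow_orderOf_eq_one])
    · rw [← map_mul, ← map_mul, ← map_inv]; exact congrArg e (Subtype.ext hxb)
    · rw [← map_zpow] at h
      exact hab ⟨i, (congrArg Subtype.val (e.injective h)).symm⟩
    · rw [← map_inv, ← map_mul, ← map_mul, ← map_pow, ← map_pow]
      exact ((inj _).trans (hβ n hw1)).trans (inj _).symm
  have horder : ∀ {n : ℕ}, Nat.card N = n → orderOf ya ∣ n := by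
    intro n hn
    rw [← hn, ← Subgroup.orderOf_mk ya haN]
    exact orderOf_dvd_natCard _
  obtain ⟨m, hm⟩ := hoa
  have hm1 : orderOf ya ≠ 1 := fun h => ha1 (orderOf_eq_one_iff.1 h)
  rcases classify (p := p) N with ⟨hcyc, -⟩ | ⟨k, hk, -, ⟨e⟩⟩ | ⟨P, hP⟩ | ⟨-, ⟨e⟩⟩ | ⟨-, ⟨e⟩⟩ | ⟨-, ⟨e⟩⟩ |
    ⟨k, hk⟩
  · exfalso
    exact hab (mem_zpowers_of_isCyclic N haN hbN hmab)
  · exfalso
    let R := (Subgroup.zpowers (DihedralGroup.r (1 : ZMod k))).comap e.toMonoidHom
    haveI : IsCyclic (R.map N.subtype) := by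
      haveI : IsCyclic R := isCyclic_of_injective (e.toMonoidHom.subgroupComap _)
        (fun u v huv => Subtype.ext (e.injective (congrArg Subtype.val huv)))
      exact isCyclic_of_surjective (R.equivMapOfInjective N.subtype N.subtype_injective).toMonoidHom
        (MulEquiv.surjective _)
    exact hab (mem_zpowers_of_isCyclic (R.map N.subtype) ⟨⟨ya, haN⟩, rot_of_odd e haN ⟨m, hm⟩, rfl⟩
      ⟨⟨yb, hbN⟩, rot_of_odd e hbN hob, rfl⟩ hmab)
  · exfalso
    have hle : invExt x ya hx hxa ≤ Subgroup.normalizer ((P : Subgroup PSL2) : Set PSL2) := by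
      intro g hg
      have hz : Subgroup.zpowers ya ≤ N := Subgroup.zpowers_le.2 haN
      rcases hg with hg | hg
      · exact hP (hz hg)
      · refine hP ?_
        have := mul_mem (inv_mem hxN) (hz hg)
        rwa [inv_mul_cancel_left] at this
    haveI := (borel_props (p := p) hp2 h5 P).2 _ hle (not_dvd_card_invExt hp2 hx hxa hpa)
    have hx' : x ∈ invExt x ya hx hxa := Or.inr (by rw [hx]; exact one_mem _)
    have ha' : ya ∈ invExt x ya hx hxa := Or.inl (Subgroup.mem_zpowers ya)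
    have hcomm := IsCyclic.commGroup (α := invExt x ya hx hxa) |>.mul_comm ⟨x, hx'⟩ ⟨ya, ha'⟩
    exact ha1 (sq_one_of_odd_commute hx hxa (congrArg Subtype.val hcomm) ⟨m, hm⟩)
  · exfalso
    have h12 := horder (card_of_equiv_alt_four ⟨e⟩)
    have h3 : orderOf ya = 3 := eq_three_of_dvd (h12.trans (by norm_num)) ⟨m, hm⟩ hm1
    obtain ⟨h1, h2, h4, h5', -⟩ := small e 3 h3 0
    rcases alt_four_no_inverted _ _ h1 (by rw [pow_two]; exact h4) h5' with h | h
    · exact h2 h
    · rw [h, one_mul, mul_one] at h5'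
      exact h2 (by rw [← pow_one (e ⟨ya, haN⟩), ← h1, pow_succ _ 2, pow_two, mul_assoc]; nth_rewrite 3 [h5']; simp)
  · exfalso
    have h24 := horder (card_of_equiv_perm_four ⟨e⟩)
    have h3 : orderOf ya = 3 := by
      have := Nat.le_of_dvd (by norm_num) h24
      rcases m with _ | _ | _ | _ | _ | _ | _ | _ | _ | _ | _ | _ | m <;> simp_all <;> omega
    obtain ⟨h1, h2, h4, h5', h6, h7, h8, h9, h10⟩ := small e 3 h3 3
    exact perm_four_words _ h1 h2 _ h4 h5' _ h6 h7 h8 (by simpa using h9 1) (by simpa using h9 (-1)) h10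
  · have h60 := horder (card_of_equiv_alt_five ⟨e⟩)
    have hq : 2 * orderOf ya ≤ Fintype.card F + 1 := by
      rcases order_cases hp2 h5 hpa ⟨m, hm⟩ hla with h | h <;> omega
    have h15 : orderOf ya = 3 ∨ orderOf ya = 5 :=
      eq_of_dvd_six_five (dvd_of_equiv e alt_five_orders haN) ⟨m, hm⟩ hm1
    rcases h15 with h3 | h5'
    · apply Subgroup.eq_top_of_card_eq
      have hN := card_of_equiv_alt_five ⟨e⟩
      have hdvd := Subgroup.card_subgroup_dvd_card N
      have hmul := card_PSL_mul (F := F) (p := p)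
      rw [gcd_two_eq (p := p), if_neg hp2] at hmul
      rw [hN] at hdvd ⊢
      have hq7 : Fintype.card F = 5 ∨ Fintype.card F = 7 := by
        rcases order_cases hp2 h5 hpa ⟨m, hm⟩ hla with h | h <;> omega
      rcases hq7 with h | h
      · rw [h] at hmul; omega
      · exfalso; rw [h] at hmul; omega
    · exfalso
      obtain ⟨h1, h2, h4, h6, h7, h8, h9, h10, h11⟩ := small e 5 h5' 2
      obtain ⟨-, -, -, -, -, -, -, -, h12⟩ := small e 5 h5' 3
      refine alt_five_words _ h1 h2 _ h4 h6 _ h7 h8 h9 ?_ ?_ ?_ ?_ h11 h12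
      · simpa using h10 1
      · simpa using h10 (-1)
      · intro hc; exact h10 2 (by rw [hc, _root_.zpow_two])
      · intro hc; exact h10 (-2) (by rw [hc, _root_.zpow_neg, _root_.zpow_two])
  · exact subfield_top hp2 h5 hk haN hpa ⟨m, hm⟩ hla

end PSL

end Cfsg.Agent.Lib.GWConsumers70
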