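import Cfsg.Agent.Lib.GWConsumers70.PSL
import Cfsg.Agent.Lib.GorensteinWalter.Wiring
import Cfsg.Agent.Lib.Alternating.Aut

/-!
# Two involutions acting on a simple group with dihedral Sylow 2-subgroups

`main` is statement S1916, given the main proposition of the Gorenstein–Walter theorem.
-/

set_option autoImplicit false
set_option linter.unusedSectionVars false
set_option linter.style.haveILetI false
set_option synthInstance.maxSize 2000

namespace Cfsg.Agent.Lib.GWConsumers70

open Cfsg.Agent.Lib.GorensteinWalter Cfsg.Agent.Lib.GorensteinWalter.Model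

universe u

section Group

variable {L : Type u} [Group L] [Finite L]

theorem hasPartner_of_dihedral (hD : HasDihedralSylow L) : HasPartner L := by
  intro u hu
  haveI : Fact (Nat.Prime 2) := ⟨Nat.prime_two⟩
  have hp : IsPGroup 2 (Subgroup.zpowers u) := IsPGroup.of_card_dvd_pow (n := 1) (by
    rw [Nat.card_zpowers, pow_one]
    exact orderOf_dvd_of_pow_eq_one (by rw [pow_two, hu]))
  obtain ⟨S, hS⟩ := hp.exists_le_sylow
  obtain ⟨n, hn, ⟨e⟩⟩ := hD S
  haveI : NeZero n := ⟨by omega⟩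
  obtain ⟨k, hk⟩ := IsPGroup.iff_card.1 S.isPGroup'
  rw [Nat.card_congr e.toEquiv, DihedralGroup.nat_card] at hk
  have hne : Even n := by
    rcases k with _ | _ | k
    · simp at hk
    · simp at hk; omega
    · refine ⟨2 ^ k, ?_⟩
      rw [pow_succ, pow_succ] at hk
      omega
  obtain ⟨m, rfl⟩ := hne
  have hm : ((m : ℕ) : ZMod (m + m)) + m = 0 := by rw [← Nat.cast_add, ZMod.natCast_self]
  have hneg : -((m : ℕ) : ZMod (m + m)) = m := neg_eq_of_add_eq_zero_left hm
  have hm0 : ((m : ℕ) : ZMod (m + m)) ≠ 0 := fun h => by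
    rw [ZMod.natCast_eq_zero_iff] at h
    have := Nat.le_of_dvd (by omega) h
    omega
  set z : DihedralGroup (m + m) := DihedralGroup.r (m : ZMod (m + m)) with hzdef
  have hzc : ∀ d, z * d = d * z := by
    rintro (i | i)
    · rw [hzdef, DihedralGroup.r_mul_r, DihedralGroup.r_mul_r]
      exact congrArg DihedralGroup.r (add_comm _ _)
    · rw [hzdef, DihedralGroup.r_mul_sr, DihedralGroup.sr_mul_r, sub_eq_add_neg, hneg]
  have hzz : z * z = 1 := by rw [hzdef, DihedralGroup.r_mul_r, hm, DihedralGroup.r_zero]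
  have hz1 : z ≠ 1 := by
    rw [hzdef, ← DihedralGroup.r_zero]
    exact fun h => hm0 (DihedralGroup.r.inj h)
  have huS : u ∈ (S : Subgroup L) := hS (Subgroup.mem_zpowers u)
  obtain ⟨d, hd2, hd1, hdu, hdc⟩ : ∃ d : DihedralGroup (m + m), d * d = 1 ∧ d ≠ 1 ∧ d ≠ e ⟨u, huS⟩ ∧
      e ⟨u, huS⟩ * d = d * e ⟨u, huS⟩ := by
    by_cases h : e ⟨u, huS⟩ = z
    · refine ⟨DihedralGroup.sr 0, GorensteinWalter.sr_sq 0, ?_, ?_, by rw [h, hzc]⟩
      · intro h'; rw [← DihedralGroup.r_zero] at h'; cases h'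
      · intro h'; rw [h, hzdef] at h'; cases h'
    · exact ⟨z, hzz, hz1, Ne.symm h, (hzc _).symm⟩
  refine ⟨(e.symm d : L), ?_, fun h => ?_, fun h => ?_, ?_⟩
  · rw [← Subgroup.coe_mul, ← map_mul, hd2, map_one, Subgroup.coe_one]
  · exact hd1 (e.symm.injective (Subtype.ext (by rw [h, map_one, Subgroup.coe_one])))
  · apply hdu
    rw [← e.apply_symm_apply d]
    exact congrArg e (Subtype.ext h)
  · have := congrArg e.symm hdc
    rw [map_mul, map_mul, e.symm_apply_apply] at this
    exact congrArg Subtype.val this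

theorem HasPartner.congr {M : Type*} [Group M] (h : HasPartner L) (e : L ≃* M) : HasPartner M := by
  intro u hu
  obtain ⟨w, hw, hw1, hwu, hc⟩ := h (e.symm u) (by rw [← map_mul, hu, map_one])
  refine ⟨e w, by rw [← map_mul, hw, map_one], fun h1 => hw1 ?_, fun h1 => hwu ?_, ?_⟩
  · rwa [MulEquiv.map_eq_one_iff] at h1
  · rw [← h1, e.symm_apply_apply]
  · have := congrArg e hc
    rwa [map_mul, map_mul, e.apply_symm_apply] at this

end Group

section Alt

local notation "S7" => Equiv.Perm (Fin 7)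
local notation "A7" => alternatingGroup (Fin 7)

theorem alt_witness {σ : S7} (hσ : σ * σ = 1) :
    ∃ A B : S7, Equiv.Perm.sign A = 1 ∧ Equiv.Perm.sign B = 1 ∧ A * A = 1 ∧ B * B = 1 ∧ A * B = B * A ∧
      A ≠ 1 ∧ B ≠ 1 ∧ A ≠ B ∧ σ * A = A * σ ∧ σ * B = B * σ := by
  have conv : ∀ ρ A B : S7, IsConj ρ σ → (Equiv.Perm.sign A = 1 ∧ Equiv.Perm.sign B = 1 ∧ A * A = 1 ∧
      B * B = 1 ∧ A * B = B * A ∧ A ≠ 1 ∧ B ≠ 1 ∧ A ≠ B ∧ ρ * A = A * ρ ∧ ρ * B = B * ρ) →
      ∃ A B : S7, Equiv.Perm.sign A = 1 ∧ Equiv.Perm.sign B = 1 ∧ A * A = 1 ∧ B * B = 1 ∧ A * B = B * A ∧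
        A ≠ 1 ∧ B ≠ 1 ∧ A ≠ B ∧ σ * A = A * σ ∧ σ * B = B * σ := by
    intro ρ A B hc h
    obtain ⟨c, rfl⟩ := isConj_iff.1 hc
    obtain ⟨h1, h2, h3, h4, h5, h6, h7, h8, h9, h10⟩ := h
    have inj : Function.Injective (MulAut.conj c) := (MulAut.conj c).injective
    refine ⟨MulAut.conj c A, MulAut.conj c B, ?_, ?_, ?_, ?_, ?_, ?_, ?_, ?_, ?_, ?_⟩
    · rw [MulAut.conj_apply, map_mul, map_mul, map_inv, h1, mul_one, mul_inv_cancel]
    · rw [MulAut.conj_apply, map_mul, map_mul, map_inv, h2, mul_one, mul_inv_cancel]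
    · rw [← map_mul, h3, map_one]
    · rw [← map_mul, h4, map_one]
    · rw [← map_mul, h5, map_mul]
    · rw [← map_one (MulAut.conj c)]; exact inj.ne h6
    · rw [← map_one (MulAut.conj c)]; exact inj.ne h7
    · exact inj.ne h8
    · rw [← MulAut.conj_apply c ρ, ← map_mul, h9, map_mul]
    · rw [← MulAut.conj_apply c ρ, ← map_mul, h10, map_mul]
  by_cases h1 : σ = 1
  · exact ⟨Equiv.swap 0 1 * Equiv.swap 2 3, Equiv.swap 0 2 * Equiv.swap 1 3, by subst h1; decide⟩
  haveI : Fact (Nat.Prime 2) := ⟨Nat.prime_two⟩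
  obtain ⟨k, hk⟩ := Equiv.Perm.cycleType_prime_order (σ := σ)
    (by rw [orderOf_eq_prime (by rw [pow_two, hσ]) h1]; exact Nat.prime_two)
  rw [orderOf_eq_prime (by rw [pow_two, hσ]) h1] at hk
  have hk3 : k < 3 := by
    have h := Equiv.Perm.sum_cycleType σ
    rw [hk, Multiset.sum_replicate, smul_eq_mul] at h
    have := Finset.card_le_univ σ.support
    rw [Fintype.card_fin] at this
    omega
  interval_cases k
  · exact conv (Equiv.swap 0 1) (Equiv.swap 2 3 * Equiv.swap 4 5) (Equiv.swap 2 4 * Equiv.swap 3 5)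
      (Equiv.Perm.isConj_iff_cycleType_eq.2 (by rw [hk]; decide +kernel)) (by decide)
  · exact conv (Equiv.swap 0 1 * Equiv.swap 2 3) (Equiv.swap 0 1 * Equiv.swap 2 3) (Equiv.swap 0 2 * Equiv.swap 1 3)
      (Equiv.Perm.isConj_iff_cycleType_eq.2 (by rw [hk]; decide +kernel)) (by decide)
  · exact conv (Equiv.swap 0 1 * Equiv.swap 2 3 * Equiv.swap 4 5) (Equiv.swap 0 1 * Equiv.swap 2 3)
      (Equiv.swap 0 2 * Equiv.swap 1 3)
      (Equiv.Perm.isConj_iff_cycleType_eq.2 (by rw [hk]; decide +kernel)) (by decide)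

/-- No automorphism of order at most two of `A₇` has fixed points free of four-groups. -/
theorem not_fourFree_alt {α : MulAut A7} (hα : α * α = 1) : ¬ FourFree α := by
  intro hf
  have h4 : 4 ≤ Fintype.card (Fin 7) := by decide
  have h6 : Fintype.card (Fin 7) ≠ 6 := by decide
  set E := Alternating.autEquiv (α := Fin 7) h4 h6
  set σ := E.symm α
  obtain ⟨A, B, hsA, hsB, hA, hB, hAB, hA1, hB1, hne, hcA, hcB⟩ :=
    alt_witness (σ := σ) (by rw [← map_mul, hα, map_one])
  have hfix : ∀ (C : S7) (hC : Equiv.Perm.sign C = 1), σ * C = C * σ →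
      α ⟨C, Equiv.Perm.mem_alternatingGroup.2 hC⟩ = ⟨C, Equiv.Perm.mem_alternatingGroup.2 hC⟩ := by
    intro C hC hc
    rw [← E.apply_symm_apply α]
    refine Subtype.ext ?_
    show (MulAut.conjNormal σ (⟨C, _⟩ : A7) : S7) = C
    rw [MulAut.conjNormal_apply]
    show σ * C * σ⁻¹ = C
    rw [hc, mul_inv_cancel_right]
  exact hne (congrArg Subtype.val (hf _ _ (Subtype.ext hA) (Subtype.ext hB) (Subtype.ext hAB)
    (fun h => hA1 (congrArg Subtype.val h)) (fun h => hB1 (congrArg Subtype.val h))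
    (hfix A hsA hcA) (hfix B hsB hcB)))

end Alt

theorem eq_of_cyclic_sylow {H : Type*} [Group H] [Finite H] (hR : ∀ R : Sylow 2 H, IsCyclic R) {l m : H}
    (hl : l * l = 1) (hm : m * m = 1) (hc : l * m = m * l) (hl1 : l ≠ 1) (hm1 : m ≠ 1) : l = m := by
  haveI : Fact (Nat.Prime 2) := ⟨Nat.prime_two⟩
  let V : Subgroup H :=
    { carrier := {g | g = 1 ∨ g = l ∨ g = m ∨ g = l * m}
      one_mem' := Or.inl rfl
      mul_mem' := by
        have p1 : l * (l * m) = m := by rw [← mul_assoc, hl, one_mul]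
        have p2 : m * (l * m) = l := by rw [← mul_assoc, ← hc, mul_assoc, hm, mul_one]
        have p3 : l * m * l = m := by rw [hc, mul_assoc, hl, mul_one]
        have p4 : l * m * m = l := by rw [mul_assoc, hm, mul_one]
        have p5 : l * m * (l * m) = 1 := by rw [← mul_assoc, p3, hm]
        rintro g k (rfl | rfl | rfl | rfl) (rfl | rfl | rfl | rfl) <;>
          simp [hl, hm, ← hc, p1, p2, p3, p4, p5]
      inv_mem' := by
        rintro g (rfl | rfl | rfl | rfl)
        · exact Or.inl inv_one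
        · exact Or.inr (Or.inl (inv_eq_of_mul_eq_one_right hl))
        · exact Or.inr (Or.inr (Or.inl (inv_eq_of_mul_eq_one_right hm)))
        · refine Or.inr (Or.inr (Or.inr ?_))
          rw [mul_inv_rev, inv_eq_of_mul_eq_one_right hl, inv_eq_of_mul_eq_one_right hm, hc] }
  have hV : IsPGroup 2 V := by
    rintro ⟨g, hg⟩
    refine ⟨1, Subtype.ext ?_⟩
    show g ^ (2 ^ 1) = 1
    rw [pow_one, pow_two]
    rcases hg with rfl | rfl | rfl | rfl
    · exact one_mul 1
    · exact hl
    · exact hm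
    · rw [mul_assoc, ← mul_assoc m, ← hc, mul_assoc l, hm, mul_one, hl]
  obtain ⟨R, hle⟩ := hV.exists_le_sylow
  haveI := hR R
  have hmem := mem_zpowers_of_isCyclic (R : Subgroup H) (hle (Or.inr (Or.inl rfl)))
    (hle (Or.inr (Or.inr (Or.inl rfl))))
    (by rw [orderOf_eq_prime (by rw [pow_two, hl]) hl1, orderOf_eq_prime (by rw [pow_two, hm]) hm1])
  classical
  rw [(isOfFinOrder_of_finite l).mem_zpowers_iff_mem_range_orderOf, orderOf_eq_prime (by rw [pow_two, hl]) hl1] at hmem
  simp [Finset.range_add_one, Finset.range_zero] at hmem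
  rcases hmem with h | h
  all_goals first | exact absurd h.symm hm1 | exact absurd h hm1 | exact h | exact h.symm

variable {G : Type u} [Group G] [Finite G]

/-- **Statement S1916**, given the Gorenstein–Walter main proposition. -/
theorem main (hM : PropMain.{u}) (L : Subgroup G) (hL : IsSimpleGroup L) (hLn : ¬ IsMulCommutative L)
    (hD : ∀ P : Sylow 2 L, ∃ n : ℕ, Nonempty (↥(P : Subgroup L) ≃* DihedralGroup n))
    (a b : G) (ha : orderOf a = 2) (hb : orderOf b = 2) (hc : a * b = b * a)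
    (haL : a ∈ Subgroup.normalizer (L : Set G)) (hbL : b ∈ Subgroup.normalizer (L : Set G))
    (hCa : ∀ R : Sylow 2 ↥(L ⊓ Subgroup.centralizer ({a} : Set G)), IsCyclic R)
    (hCb : ∀ R : Sylow 2 ↥(L ⊓ Subgroup.centralizer ({b} : Set G)), IsCyclic R)
    (hgen : ¬ L ≤ Subgroup.closure ({a, b} : Set G) ⊔ (L ⊓ Subgroup.centralizer ({a} : Set G)) ⊔
      (L ⊓ Subgroup.centralizer ({b} : Set G))) :
    a * b ∈ Subgroup.centralizer (L : Set G) := by
  classical
  haveI := hL
  haveI : Fact (Nat.Prime 2) := ⟨Nat.prime_two⟩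
  have hcd : SylowCD L := fun S => by
    obtain ⟨n, ⟨e⟩⟩ := hD S
    by_cases hn : 2 ≤ n
    · exact Or.inr ⟨n, hn, ⟨e⟩⟩
    · left
      rcases Nat.lt_or_eq_of_le (not_le.1 hn |> Nat.le_of_lt_succ) with h0 | h1
      · exfalso
        obtain rfl : n = 0 := by omega
        haveI : Finite (DihedralGroup 0) := Finite.of_equiv _ e.toEquiv
        exact not_finite (DihedralGroup 0)
      · subst h1
        exact isCyclic_of_prime_card (p := 2) (by rw [Nat.card_congr e.toEquiv, DihedralGroup.nat_card])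
  have hDL := hcd.dihedral_of_simple hLn
  have hcen : ∀ z : L, (∀ u, z * u = u * z) → z = 1 := fun z hz => by
    have hz' : z ∈ Subgroup.center L := Subgroup.mem_center_iff.2 fun u => (hz u).symm
    rcases (inferInstance : (Subgroup.center L).Normal).eq_bot_or_eq_top with h | h
    · rwa [h, Subgroup.mem_bot] at hz'
    · exact absurd ⟨⟨fun p q => (Subgroup.mem_center_iff.1 (h ▸ Subgroup.mem_top q : q ∈ Subgroup.center L) p)⟩⟩ hLn
  set X := Subgroup.normalizer (L : Set G) with hX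
  set L' : Subgroup X := L.subgroupOf X with hL'
  haveI : L'.Normal := Subgroup.normal_in_normalizer
  let ι : L' ≃* L := Subgroup.subgroupOfEquivOfLe Subgroup.le_normalizer
  have hknown := known_of_propMain hM L hL hLn hDL
  -- transfer to a model
  have setup : ∀ {M : Type} [Group M] (f : L ≃* M) (v : G) (hv : v ∈ X),
      (∀ R : Sylow 2 ↥(L ⊓ Subgroup.centralizer ({v} : Set G)), IsCyclic R) →
      FourFree (autHom L' (ι.trans f) ⟨v, hv⟩) ∧
      ∀ u : M, autHom L' (ι.trans f) ⟨v, hv⟩ u = u → ((f.symm u : L) : G) ∈ L ⊓ Subgroup.centralizer ({v} : Set G) := by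
    intro M _ f v hv hR
    have hmem : ∀ u : M, autHom L' (ι.trans f) ⟨v, hv⟩ u = u →
        ((f.symm u : L) : G) ∈ L ⊓ Subgroup.centralizer ({v} : Set G) := by
      intro u hu
      have h := commute_of_fixed L' (ι.trans f) (x := ⟨v, hv⟩) (l := ι.symm (f.symm u))
        (by simpa using hu)
      refine ⟨(f.symm u).2, Subgroup.mem_centralizer_singleton_iff.2 ?_⟩
      exact (congrArg Subtype.val h).symm
    refine ⟨fun u w hu hw huw hu1 hw1 hfu hfw => ?_, hmem⟩
    have key := eq_of_cyclic_sylow hR (l := ⟨_, hmem u hfu⟩) (m := ⟨_, hmem w hfw⟩)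
      (Subtype.ext (by simpa [map_mul] using congrArg (fun t => ((f.symm t : L) : G)) hu))
      (Subtype.ext (by simpa [map_mul] using congrArg (fun t => ((f.symm t : L) : G)) hw))
      (Subtype.ext (by simpa [map_mul] using congrArg (fun t => ((f.symm t : L) : G)) huw))
      (fun h => hu1 (f.symm.injective (Subtype.ext (by simpa using congrArg Subtype.val h))))
      (fun h => hw1 (f.symm.injective (Subtype.ext (by simpa using congrArg Subtype.val h))))
    exact f.symm.injective (Subtype.ext (congrArg (fun t : ↥(L ⊓ Subgroup.centralizer ({v} : Set G)) => (t : G)) key))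
  have hsq : ∀ {v : G} (hv : v ∈ X), orderOf v = 2 → (⟨v, hv⟩ : X) * ⟨v, hv⟩ = 1 := by
    intro v hv h
    refine Subtype.ext ?_
    show v * v = 1
    rw [← pow_two, ← h, pow_orderOf_eq_one]
  rcases hknown with ⟨F, iF, iF', hF, h3, ⟨f⟩⟩ | ⟨⟨f⟩⟩
  · obtain ⟨hfa, hma⟩ := setup f a haL hCa
    obtain ⟨hfb, hmb⟩ := setup f b hbL hCb
    set φ := autHom L' (ι.trans f)
    have h := psl_case hF h3 ((hasPartner_of_dihedral hDL).congr f)
      (fun z hz => by
        rw [← f.apply_symm_apply z, hcen (f.symm z) (fun u => ?_), map_one]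
        apply f.injective
        simpa using hz (f u))
      (α := φ ⟨a, haL⟩) (β := φ ⟨b, hbL⟩)
      (by rw [← map_mul, hsq haL ha, map_one]) (by rw [← map_mul, hsq hbL hb, map_one])
      (by rw [← map_mul, ← map_mul]; exact congrArg φ (Subtype.ext hc)) hfa hfb (fun htop => hgen fun l hl => ?_)
    · rw [Subgroup.mem_centralizer_iff]
      intro l hl
      rw [← map_mul] at h
      have h2 := commute_of_fixed L' (ι.trans f) (x := ⟨a, haL⟩ * ⟨b, hbL⟩) (l := ι.symm ⟨l, hl⟩)
        (by rw [show autHom L' (ι.trans f) _ = 1 from h, MulAut.one_apply])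
      exact (congrArg Subtype.val h2).symm
    · have hle : Subgroup.closure {u | φ ⟨a, haL⟩ u = u ∨ φ ⟨b, hbL⟩ u = u} ≤
          (Subgroup.closure ({a, b} : Set G) ⊔ (L ⊓ Subgroup.centralizer ({a} : Set G)) ⊔
            (L ⊓ Subgroup.centralizer ({b} : Set G))).comap (L.subtype.comp f.symm.toMonoidHom) := by
        rw [Subgroup.closure_le]
        rintro u (hu | hu)
        · exact Subgroup.mem_sup_left (Subgroup.mem_sup_right (hma u hu))
        · exact Subgroup.mem_sup_right (hmb u hu)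
      rw [htop] at hle
      simpa using hle (Subgroup.mem_top (f ⟨l, hl⟩))
  · exact absurd (setup f a haL hCa).1 (not_fourFree_alt (by rw [← map_mul, hsq haL ha, map_one]))

end Cfsg.Agent.Lib.GWConsumers70
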