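import Cfsg.Agent.Lib.GWConsumers70.Torus
import Cfsg.Agent.Lib.GWConsumers70.Generate

/-!
# Two commuting automorphisms of order two of `PSL(2, q)` with small fixed four-group rank
-/

set_option autoImplicit false
set_option linter.unusedSectionVars false
set_option linter.style.haveILetI false

namespace Cfsg.Agent.Lib.GWConsumers70

open Matrix Cfsg.Agent.Lib.AutPSL Cfsg.Agent.Lib.GorensteinWalter.Model
open scoped MatrixGroups

/-- The fixed points of `α` contain no four-group. -/
def FourFree {M : Type*} [Group M] (α : MulAut M) : Prop :=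
  ∀ u w : M, u * u = 1 → w * w = 1 → u * w = w * u → u ≠ 1 → w ≠ 1 → α u = u → α w = w → u = w

/-- Every element of square one commutes with an involution different from it. -/
def HasPartner (M : Type*) [Group M] : Prop :=
  ∀ u : M, u * u = 1 → ∃ w : M, w * w = 1 ∧ w ≠ 1 ∧ w ≠ u ∧ u * w = w * u

theorem not_inner_of_fourFree {M : Type*} [Group M] (hp : HasPartner M)
    (hz : ∀ z : M, (∀ u, z * u = u * z) → z = 1) {x : M} (hα : FourFree (MulAut.conj x))
    (h2 : (MulAut.conj x : MulAut M) * MulAut.conj x = 1) : False := by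
  have hx : x * x = 1 := hz _ fun u => by
    have := DFunLike.congr_fun h2 u
    rw [← map_mul, MulAut.conj_apply, MulAut.one_apply] at this
    exact mul_inv_eq_iff_eq_mul.1 this
  have fix : ∀ w : M, x * w = w * x → (MulAut.conj x) w = w := fun w hw => by
    rw [MulAut.conj_apply, hw, mul_inv_cancel_right]
  obtain ⟨w, hw, hw1, hwx, hc⟩ := hp x hx
  by_cases hx1 : x = 1
  · obtain ⟨v, hv, hv1, hvw, hc'⟩ := hp w hw
    exact hvw (hα v w hv hw hc'.symm hv1 hw1 (fix v (by simp [hx1])) (fix w hc))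
  · exact hwx (hα x w hx hw hc hx1 hw1 (fix x rfl) (fix w hc)).symm

section PSL

variable {F : Type} [Field F] [Fintype F]

local notation "SL2" => Matrix.SpecialLinearGroup (Fin 2) F
local notation "PSL2" => Matrix.ProjectiveSpecialLinearGroup (Fin 2) F
local notation "GL2" => GL (Fin 2) F
local notation "M2" => Matrix (Fin 2) (Fin 2) F

theorem linear_of_fourFree (hodd : ringChar F ≠ 2) {α : MulAut PSL2} (hα : α * α = 1)
    (hf : FourFree α) : ∃ g : GL2, α = conjAut g := by
  classical
  have h2 : (2 : F) ≠ 0 := Ring.two_ne_zero hodd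
  obtain ⟨g, σ, γ, hγ, hdec⟩ := exists_decomp (le_refl 2) α
  have hφ : α = conjAut g * fieldAut σ := by
    rcases hγ with rfl | ⟨h3, -⟩
    · rw [hdec, mul_one]
    · omega
  by_cases hσ : σ = 1
  · exact ⟨g, by rw [hφ, hσ, map_one, mul_one]⟩
  exfalso
  have hsq : (conjAut g * fieldAut σ : MulAut PSL2) ^ 2 = 1 := by rw [← hφ, pow_two, hα]
  have hσ2 : σ ^ 2 = 1 := by
    have h := hsq
    rw [conjAut_mul_fieldAut_pow] at h
    exact (eq_one_of_conj_field (le_refl 2) h).2
  have : Fact (Nat.Prime 2) := ⟨Nat.prime_two⟩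
  have hord : orderOf σ = 2 := orderOf_eq_prime hσ2 hσ
  obtain ⟨h, hh⟩ := exists_conj_of_pow_eq_one (le_refl 2) hord two_pos hsq
  obtain ⟨p, hp⟩ := CharP.exists F
  haveI : Fact p.Prime := ⟨CharP.char_is_prime F p⟩
  obtain ⟨a₀, b₀, hab⟩ := ZMod.sq_add_sq p (-1)
  set f : ZMod p →+* F := ZMod.castHom (dvd_refl p) F
  set a := f a₀
  set b := f b₀
  have hab' : a ^ 2 + b ^ 2 = -1 := by
    rw [← map_pow, ← map_pow, ← map_add, hab, map_neg, map_one]
  have hfix : ∀ t : ZMod p, σ (f t) = f t := fun t =>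
    RingHom.congr_fun (Subsingleton.elim (σ.toRingHom.comp f) f) t
  let A : SL2 := ⟨!![0, 1; -1, 0], by simp [Matrix.det_fin_two_of]⟩
  let B : SL2 := ⟨!![a, b; b, -a], by rw [Matrix.det_fin_two_of]; linear_combination -hab'⟩
  have hA2 : (A : M2) * A = (-1 : F) • 1 := by
    ext i j; fin_cases i <;> fin_cases j <;> simp [A, Matrix.mul_apply, Fin.sum_univ_two]
  have hB2 : (B : M2) * B = (a ^ 2 + b ^ 2) • (1 : M2) := by
    ext i j; fin_cases i <;> fin_cases j <;> simp [B, Matrix.mul_apply, Fin.sum_univ_two] <;> ring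
  have hAB : (A : M2) * B = (-1 : F) • ((B : M2) * A) := by
    ext i j; fin_cases i <;> fin_cases j <;> simp [A, B, Matrix.mul_apply, Fin.sum_univ_two]
  have one_of : ∀ (s : SL2) (c : F), (s : M2) = c • 1 → (QuotientGroup.mk s : PSL2) = 1 := fun s c hs =>
    ((mk_eq_mk_iff (1 : SL2) s).2 ⟨c, by rw [Matrix.SpecialLinearGroup.coe_one]; exact hs⟩).symm
  have qA : (QuotientGroup.mk A : PSL2) * QuotientGroup.mk A = 1 := by
    rw [← QuotientGroup.mk_mul]; exact one_of _ (-1) (by rw [Matrix.SpecialLinearGroup.coe_mul, hA2])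
  have qB : (QuotientGroup.mk B : PSL2) * QuotientGroup.mk B = 1 := by
    rw [← QuotientGroup.mk_mul]
    exact one_of _ (-1) (by rw [Matrix.SpecialLinearGroup.coe_mul, hB2, hab'])
  have qAB : (QuotientGroup.mk A : PSL2) * QuotientGroup.mk B = QuotientGroup.mk B * QuotientGroup.mk A := by
    rw [← QuotientGroup.mk_mul, ← QuotientGroup.mk_mul]
    refine ((mk_eq_mk_iff (B * A) (A * B)).2 ⟨-1, ?_⟩).symm
    rw [Matrix.SpecialLinearGroup.coe_mul, Matrix.SpecialLinearGroup.coe_mul, hAB]
  have nA : (QuotientGroup.mk A : PSL2) ≠ 1 := by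
    intro h1
    obtain ⟨c, hc1⟩ := (mk_eq_mk_iff (1 : SL2) A).1 h1.symm
    have := congrFun (congrFun hc1 0) 1
    simp [A] at this
  have nB : (QuotientGroup.mk B : PSL2) ≠ 1 := by
    intro h1
    obtain ⟨c, hc1⟩ := (mk_eq_mk_iff (1 : SL2) B).1 h1.symm
    have e00 := congrFun (congrFun hc1 0) 0
    have e11 := congrFun (congrFun hc1 1) 1
    have e01 := congrFun (congrFun hc1 0) 1
    simp [B] at e00 e11 e01
    have ha : a = 0 := mul_left_cancel₀ h2 (by linear_combination e00 - e11)
    rw [ha, e01] at hab'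
    simp at hab'
  have nAB : (QuotientGroup.mk A : PSL2) ≠ QuotientGroup.mk B := by
    intro h1
    obtain ⟨c, hc1⟩ := (mk_eq_mk_iff A B).1 h1
    have e00 := congrFun (congrFun hc1 0) 0
    have e10 := congrFun (congrFun hc1 1) 0
    have e01 := congrFun (congrFun hc1 0) 1
    simp [A, B] at e00 e10 e01
    have hb : b = 0 := mul_left_cancel₀ h2 (by linear_combination e01 + e10)
    rw [e00, hb] at hab'
    simp at hab'
  have fA : fieldSL σ A = A := by
    apply Subtype.ext
    rw [coe_fieldSL]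
    ext i j; fin_cases i <;> fin_cases j <;> simp [A]
  have fB : fieldSL σ B = B := by
    apply Subtype.ext
    rw [coe_fieldSL]
    ext i j; fin_cases i <;> fin_cases j <;> simp [B, a, b, hfix]
  have hfixed : ∀ s : SL2, fieldSL σ s = s →
      α ((conjAut h : MulAut PSL2) (QuotientGroup.mk s)) = (conjAut h : MulAut PSL2) (QuotientGroup.mk s) := by
    intro s hs
    rw [hφ, hh, MulAut.mul_apply, MulAut.mul_apply, MulAut.inv_apply_self, fieldAut_mk, hs]
  refine nAB ((conjAut h : MulAut PSL2).injective (hf _ _ ?_ ?_ ?_ ?_ ?_ (hfixed A fA) (hfixed B fB)))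
  · rw [← map_mul, qA, map_one]
  · rw [← map_mul, qB, map_one]
  · rw [← map_mul, qAB, map_mul]
  · rw [← map_one (conjAut h : MulAut PSL2)]; exact (conjAut h : MulAut PSL2).injective.ne nA
  · rw [← map_one (conjAut h : MulAut PSL2)]; exact (conjAut h : MulAut PSL2).injective.ne nB

/-- Data of a non-inner linear involutory automorphism. -/
theorem outer_data (hodd : ringChar F ≠ 2) (hp : HasPartner PSL2)
    (hz : ∀ z : PSL2, (∀ u, z * u = u * z) → z = 1) {α : MulAut PSL2} (hα : α * α = 1)
    (hf : FourFree α) :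
    ∃ g : GL2, α = conjAut g ∧ (g : M2).trace = 0 ∧ ¬ IsSquare (g : M2).det := by
  obtain ⟨g, hg⟩ := linear_of_fourFree hodd hα hf
  refine ⟨g, hg, ?_, fun hsq => ?_⟩
  · obtain ⟨c, hc⟩ := exists_scalar_of_conjAut_eq_one (le_refl 2) (g := g * g) (by rw [map_mul, ← hg, hα])
    refine tr_zero_of_sq (c := (c : F)) ?_ fun d hd => ?_
    · rw [← Units.val_mul, hc]
      simp [Matrix.smul_one_eq_diagonal, GeneralLinearGroup.coe_scalar, Matrix.scalar_apply]
    · have h1 : α = MulAut.conj (1 : PSL2) := by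
        rw [hg, conjAut_eq_one_of_center (mem_center_GL_of_scalar hd), map_one]
      exact not_inner_of_fourFree hp hz (h1 ▸ hf) (h1 ▸ hα)
  · obtain ⟨r, hr⟩ := hsq
    have hr0 : r ≠ 0 := fun h0 => GeneralLinearGroup.det_ne_zero g (by rw [hr, h0, mul_zero])
    obtain ⟨x, hx⟩ := exists_inner_of_det (d := g) (c := Units.mk0 r hr0) (Units.ext (by
      rw [GeneralLinearGroup.val_det_apply, hr]; rfl))
    rw [hx] at hg
    exact not_inner_of_fourFree hp hz (hg ▸ hf) (hg ▸ hα)

theorem isSquare_mul_of_not (hodd : ringChar F ≠ 2) {a b : F} (ha0 : a ≠ 0) (hb0 : b ≠ 0)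
    (ha : ¬ IsSquare a) (hb : ¬ IsSquare b) : IsSquare (a * b) := by
  rw [FiniteField.isSquare_iff hodd (mul_ne_zero ha0 hb0), mul_pow]
  rw [FiniteField.isSquare_iff hodd ha0] at ha
  rw [FiniteField.isSquare_iff hodd hb0] at hb
  rw [(FiniteField.pow_dichotomy hodd ha0).resolve_left ha, (FiniteField.pow_dichotomy hodd hb0).resolve_left hb]
  norm_num

/-- The two fixed point groups generate, or the two automorphisms agree. -/
theorem psl_case (hF : Odd (Fintype.card F)) (h3 : 3 < Fintype.card F) (hp : HasPartner PSL2)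
    (hz : ∀ z : PSL2, (∀ u, z * u = u * z) → z = 1) {α β : MulAut PSL2} (hα : α * α = 1)
    (hβ : β * β = 1) (hab : α * β = β * α) (hfa : FourFree α) (hfb : FourFree β)
    (hgen : Subgroup.closure {u : PSL2 | α u = u ∨ β u = u} ≠ ⊤) :
    α * β = 1 := by
  classical
  by_contra hne
  have hodd : ringChar F ≠ 2 := fun h => by
    have := FiniteField.even_card_of_char_two h
    rw [← Nat.not_even_iff_odd, Nat.even_iff] at hF
    exact hF this
  have h2 : (2 : F) ≠ 0 := Ring.two_ne_zero hodd
  have h5 : 5 ≤ Fintype.card F := by obtain ⟨r, hr⟩ := hF; omega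
  obtain ⟨p, hpc⟩ := CharP.exists F
  haveI : Fact p.Prime := ⟨CharP.char_is_prime F p⟩
  have hp2 : p ≠ 2 := by rw [← ringChar.eq F p]; exact hodd
  obtain ⟨ga, hga, hta, hsa⟩ := outer_data hodd hp hz hα hfa
  obtain ⟨gb, hgb, htb, hsb⟩ := outer_data hodd hp hz hβ hfb
  -- the product is inner
  obtain ⟨r, hr⟩ := isSquare_mul_of_not hodd (GeneralLinearGroup.det_ne_zero ga)
    (GeneralLinearGroup.det_ne_zero gb) hsa hsb
  have hr0 : r ≠ 0 := fun h0 => by
    rw [h0, mul_zero, mul_eq_zero] at hr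
    exact hr.elim (GeneralLinearGroup.det_ne_zero ga) (GeneralLinearGroup.det_ne_zero gb)
  obtain ⟨x, hx⟩ := exists_inner_of_det (d := ga * gb) (c := Units.mk0 r hr0) (Units.ext (by
    rw [GeneralLinearGroup.val_det_apply, Units.val_mul, Matrix.det_mul, hr]; rfl))
  rw [map_mul, ← hga, ← hgb] at hx
  have hx1 : x ≠ 1 := fun h => hne (by rw [hx, h, map_one])
  have hxx : x * x = 1 := hz _ fun u => by
    have h : (MulAut.conj x : MulAut PSL2) * MulAut.conj x = 1 := by
      rw [← hx, mul_assoc, ← mul_assoc β α, ← hab, mul_assoc α β, hβ, mul_one, hα]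
    have := DFunLike.congr_fun h u
    rw [← map_mul, MulAut.conj_apply, MulAut.one_apply] at this
    exact mul_inv_eq_iff_eq_mul.1 this
  have hxinv : x⁻¹ = x := inv_eq_of_mul_eq_one_right hxx
  have fixx : ∀ γ : MulAut PSL2, γ * MulAut.conj x = MulAut.conj x * γ → γ x = x := by
    intro γ hγ
    refine mul_inv_eq_one.1 (hz _ fun u => ?_)
    obtain ⟨v, rfl⟩ := γ.surjective u
    have h := DFunLike.congr_fun hγ v
    simp only [MulAut.mul_apply, MulAut.conj_apply, map_mul, map_inv] at h
    have hgx : γ x * γ x = 1 := by rw [← map_mul, hxx, map_one]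
    rw [hxinv] at h ⊢
    rw [inv_eq_of_mul_eq_one_right hgx] at h
    calc γ x * x * γ v = γ x * (x * γ v * x) * x := by simp only [mul_assoc, hxx, mul_one]
      _ = γ x * (γ x * γ v * γ x) * x := by rw [h]
      _ = γ v * (γ x * x) := by simp only [← mul_assoc, hgx, one_mul]
  have hax : α x = x := fixx α (by rw [← hx, mul_assoc α β α, ← hab])
  have hbx : β x = x := fixx β (by rw [← hx, ← mul_assoc β α β, ← hab])
  -- the matrices anticommute
  have hanti : (gb : M2) * (ga : M2) = -((ga : M2) * (gb : M2)) := by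
    obtain ⟨k, hk⟩ := (conjAut_eq_iff (le_refl 2)).1
      (show (conjAut (ga * gb) : MulAut PSL2) = conjAut (gb * ga) by
        rw [map_mul, map_mul, ← hga, ← hgb, hab])
    have hk' : (gb : M2) * (ga : M2) = (k : F) • ((ga : M2) * (gb : M2)) := by
      have := congrArg Units.val hk
      simp only [Units.val_mul, GeneralLinearGroup.coe_scalar, Matrix.scalar_apply] at this
      rw [this, ← Matrix.smul_one_eq_diagonal, Matrix.smul_mul, one_mul]
    have hk2 : (k : F) * k = 1 := by
      have h := congrArg Matrix.det hk'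
      rw [Matrix.det_smul, Matrix.det_mul, Matrix.det_mul, Fintype.card_fin, mul_comm (gb : M2).det] at h
      exact mul_right_cancel₀ (mul_ne_zero (GeneralLinearGroup.det_ne_zero ga) (GeneralLinearGroup.det_ne_zero gb))
        (by rw [one_mul, ← pow_two]; exact h.symm)
    rcases mul_self_eq_one_iff.1 hk2 with h | h
    · exfalso
      rw [h, one_smul] at hk'
      obtain ⟨t, ht⟩ := prop_of_commute h2 htb hta ga.ne_zero hk'
      have ht0 : t ≠ 0 := fun h0 => gb.ne_zero (by rw [ht, h0, zero_smul])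
      have : (conjAut ga : MulAut PSL2) = conjAut gb := (conjAut_eq_iff (le_refl 2)).2
        ⟨Units.mk0 t ht0, Units.ext (by
          rw [Units.val_mul, GeneralLinearGroup.coe_scalar, Matrix.scalar_apply, ← Matrix.smul_one_eq_diagonal,
            Matrix.smul_mul, one_mul]
          exact ht)⟩
      rw [← hga, ← hgb] at this
      exact hne (by rw [← this, hα])
    · rw [h, neg_one_smul] at hk'; exact hk'
  -- the torus elements
  have key : ∀ (γ δ : MulAut PSL2) (g g' : GL2), γ = conjAut g → δ = conjAut g' → (g : M2).trace = 0 →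
      ¬ IsSquare (g : M2).det → FourFree γ → γ x = x →
      (g' : M2) * (g : M2) = -((g : M2) * (g' : M2)) → (∀ u, x * u * x⁻¹ = γ (δ u)) →
      ∃ y : PSL2, γ y = y ∧ δ y = y⁻¹ ∧ x * y * x = y⁻¹ ∧ ¬ p ∣ orderOf y ∧ Odd (orderOf y) ∧
        Fintype.card F - 1 ≤ 2 * orderOf y := by
    intro γ δ g g' hg hg' htr hns hff hgx han hconj
    obtain ⟨y, hl, hl', hpy, hfix, hinv⟩ := exists_torus_elt h2 htr
    rw [ringChar.eq F p] at hpy
    rw [← hg] at hfix
    have hdy : δ y = y⁻¹ := by rw [hg']; exact hinv g' han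
    have hxy : x * y * x = y⁻¹ := by
      have := hconj y
      rw [hxinv, hdy, map_inv, hfix] at this
      exact this
    have h3le : 3 ≤ orderOf y := by
      by_cases hs : IsSquare (-(g : M2).det)
      · have h4 : Fintype.card F % 4 = 3 := by
          by_contra h4
          have h1 : IsSquare (-1 : F) := FiniteField.isSquare_neg_one_iff.2 h4
          exact hns (by simpa using h1.mul hs)
        omega
      · have := hl' hs; omega
    refine ⟨y, hfix, hdy, hxy, hpy, ?_, hl⟩
    by_contra heven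
    rw [Nat.not_odd_iff_even] at heven
    obtain ⟨m, hm⟩ := heven
    set z := y ^ m with hzdef
    have hz2 : z * z = 1 := by rw [hzdef, ← pow_add, ← hm, pow_orderOf_eq_one]
    have hz1 : z ≠ 1 := fun h => by
      have := Nat.le_of_dvd (by omega) (orderOf_dvd_of_pow_eq_one h)
      omega
    have hxz : x * z = z * x := by
      have h1 : (MulAut.conj x) z = ((MulAut.conj x) y) ^ m := map_pow _ _ _
      rw [MulAut.conj_apply, MulAut.conj_apply, hxinv, hxy, inv_pow] at h1
      rw [← hzdef, inv_eq_of_mul_eq_one_right hz2] at h1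
      calc x * z = x * z * x * x := by rw [mul_assoc _ x x, hxx, mul_one]
        _ = z * x := by rw [h1]
    have := hff x z hxx hz2 hxz hx1 hz1 hgx (by rw [hzdef, map_pow, hfix])
    have hc : x * y = y * x := by
      rw [this, hzdef]; exact ((Commute.refl y).pow_left m).eq
    have h2' : orderOf y ∣ 2 := orderOf_dvd_of_pow_eq_one (by
      rw [hc, mul_assoc, hxx, mul_one] at hxy
      rw [pow_two]
      nth_rewrite 2 [hxy]
      exact mul_inv_cancel y)
    have := Nat.le_of_dvd two_pos h2'
    omega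
  obtain ⟨ya, haa, hba, hxa, hpa, hoa, hla⟩ := key α β ga gb hga hgb hta hsa hfa hax hanti fun u => by
    rw [← MulAut.mul_apply, hx, MulAut.conj_apply]
  obtain ⟨yb, hbb, hab', hxb, hpb, hob, hlb⟩ := key β α gb ga hgb hga htb hsb hfb hbx
    (by rw [hanti, neg_neg]) fun u => by rw [← MulAut.mul_apply, ← hab, hx, MulAut.conj_apply]
  have htop := generate hp2 h5 α hxx hxa hxb haa hab' hpa hpb hoa hob hla hlb
  refine hgen (top_le_iff.1 ?_)
  rw [← htop]
  refine Subgroup.closure_mono ?_
  rintro u (rfl | rfl | rfl)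
  · exact Or.inl hax
  · exact Or.inl haa
  · exact Or.inr hbb

end PSL

end Cfsg.Agent.Lib.GWConsumers70
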