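import Cfsg.Agent.Lib.GorensteinWalter.ModelPSL

/-!
# The torus of an involution of `PGL(2, q)`

For `g ∈ GL(2, q)` of trace zero with `g² = c`, the elements of `SL(2, q)` commuting with `g` form a
cyclic group of order at least `q - 1`, inverted by every element anticommuting with `g`.
-/

set_option autoImplicit false
set_option linter.unusedSectionVars false

namespace Cfsg.Agent.Lib.GWConsumers70

open Matrix Cfsg.Agent.Lib.AutPSL Cfsg.Agent.Lib.GorensteinWalter.Model
open scoped MatrixGroups

section Torus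

variable {F : Type} [Field F] [Fintype F]

local notation "SL2" => Matrix.SpecialLinearGroup (Fin 2) F
local notation "PSL2" => Matrix.ProjectiveSpecialLinearGroup (Fin 2) F
local notation "GL2" => GL (Fin 2) F
local notation "M2" => Matrix (Fin 2) (Fin 2) F

theorem sq_eq_of_trace_zero {G : M2} (h : G.trace = 0) : G * G = (-G.det) • 1 := by
  rw [trace_fin_two] at h
  have h11 : G 1 1 = -G 0 0 := by linear_combination h
  ext i j
  fin_cases i <;> fin_cases j <;>
    simp [Matrix.mul_apply, Fin.sum_univ_two, det_fin_two, h11] <;> ring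

theorem det_comb {G : M2} (h : G.trace = 0) (u v : F) :
    (u • (1 : M2) + v • G).det = u ^ 2 + G.det * v ^ 2 := by
  rw [trace_fin_two] at h
  have h11 : G 1 1 = -G 0 0 := by linear_combination h
  simp [det_fin_two, h11]
  ring

theorem mul_comb {G : M2} (h : G.trace = 0) (u v u' v' : F) :
    (u • (1 : M2) + v • G) * (u' • (1 : M2) + v' • G) =
      (u * u' - G.det * v * v') • (1 : M2) + (u * v' + u' * v) • G := by
  have hsq := sq_eq_of_trace_zero h
  simp only [add_mul, mul_add, Matrix.smul_mul, Matrix.mul_smul, one_mul, mul_one, hsq, smul_add,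
    smul_smul, sub_smul, add_smul]
  module

/-- The elements of `SL₂` commuting with `g`. -/
def slComm (g : GL2) : Subgroup SL2 :=
  (Subgroup.centralizer ({g} : Set GL2)).comap Matrix.SpecialLinearGroup.toGL

theorem mem_slComm {g : GL2} {s : SL2} :
    s ∈ slComm g ↔ (s : M2) * (g : M2) = (g : M2) * (s : M2) := by
  rw [slComm, Subgroup.mem_comap, Subgroup.mem_centralizer_singleton_iff, Units.ext_iff, Units.val_mul,
    Units.val_mul]
  rfl

theorem eq_comb (h2 : (2 : F) ≠ 0) {g : GL2} (htr : (g : M2).trace = 0) {s : SL2} (hs : s ∈ slComm g) :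
    ∃ u v : F, (s : M2) = u • (1 : M2) + v • (g : M2) := by
  have hc := mem_slComm.1 hs
  have hc' : tfree (s : M2) * (g : M2) = (g : M2) * tfree (s : M2) := by
    simp only [tfree, sub_mul, mul_sub, Matrix.smul_mul, Matrix.mul_smul, one_mul, mul_one, hc]
  obtain ⟨κ, hκ⟩ := prop_of_commute h2 (trace_tfree h2 _) htr g.ne_zero hc'
  refine ⟨(s : M2).trace / 2, κ, ?_⟩
  rw [← hκ, tfree]
  abel

theorem comb_mem (g : GL2) (s : SL2) (u v : F) (hs : (s : M2) = u • (1 : M2) + v • (g : M2)) :
    s ∈ slComm g := by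
  rw [mem_slComm, hs]
  simp only [add_mul, mul_add, Matrix.smul_mul, Matrix.mul_smul, one_mul, mul_one]

theorem card_slComm_le (h2 : (2 : F) ≠ 0) {g : GL2} (htr : (g : M2).trace = 0) :
    Fintype.card F - 1 ≤ Nat.card (slComm g) ∧
      (¬ IsSquare (-(g : M2).det) → Fintype.card F + 1 ≤ Nat.card (slComm g)) := by
  classical
  set D := (g : M2).det with hD
  have hD0 : D ≠ 0 := by rw [hD, ← GeneralLinearGroup.val_det_apply]; exact Units.ne_zero _
  let A : Finset F := Finset.univ.filter fun t => 1 + D * t ^ 2 ≠ 0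
  have hA : Fintype.card F - 2 ≤ A.card := by
    have hB : (Finset.univ.filter fun t : F => 1 + D * t ^ 2 = 0).card ≤ 2 := by
      by_contra hlt
      obtain ⟨a, ha, b, hb, c, hc, hab, hac, hbc⟩ := Finset.two_lt_card.1 (not_le.1 hlt)
      simp only [Finset.mem_filter, Finset.mem_univ, true_and] at ha hb hc
      have e1 : a + b = 0 := (mul_eq_zero.1 (show (a - b) * (a + b) = 0 from
        mul_left_cancel₀ hD0 (by linear_combination ha - hb))).resolve_left (sub_ne_zero.2 hab)
      have e2 : a + c = 0 := (mul_eq_zero.1 (show (a - c) * (a + c) = 0 from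
        mul_left_cancel₀ hD0 (by linear_combination ha - hc))).resolve_left (sub_ne_zero.2 hac)
      exact hbc (by linear_combination e1 - e2)
    have := Finset.card_filter_add_card_filter_not (s := (Finset.univ : Finset F))
      (fun t : F => 1 + D * t ^ 2 = 0)
    rw [Finset.card_univ] at this
    show _ ≤ (Finset.univ.filter fun t : F => ¬ (1 + D * t ^ 2 = 0)).card
    omega
  have hA' : ¬ IsSquare (-D) → A.card = Fintype.card F := by
    intro hns
    have hu : A = Finset.univ := Finset.filter_true_of_mem fun t _ (h0 : 1 + D * t ^ 2 = 0) =>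
      hns ⟨D * t, by linear_combination (-D) * h0⟩
    rw [hu, Finset.card_univ]
  let mk : ∀ t : A, SL2 := fun t =>
    ⟨((1 - D * (t : F) ^ 2) / (1 + D * (t : F) ^ 2)) • (1 : M2) +
      (2 * (t : F) / (1 + D * (t : F) ^ 2)) • (g : M2), by
      have ht : 1 + D * (t : F) ^ 2 ≠ 0 := (Finset.mem_filter.1 t.2).2
      rw [det_comb htr, ← hD]
      field_simp
      ring⟩
  let neg : SL2 := ⟨(-1 : F) • (1 : M2) + (0 : F) • (g : M2), by rw [det_comb htr]; ring⟩
  let f : Option A → slComm g := fun o => match o with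
    | none => ⟨neg, comb_mem g neg _ _ rfl⟩
    | some t => ⟨mk t, comb_mem g (mk t) _ _ rfl⟩
  have tr_eq : ∀ u v : F, (u • (1 : M2) + v • (g : M2)).trace = 2 * u := by
    intro u v
    rw [trace_add, trace_smul, trace_smul, htr, trace_one, Fintype.card_fin, smul_zero, add_zero,
      smul_eq_mul]
    push_cast
    ring
  have coord : ∀ u v u' v' : F,
      u • (1 : M2) + v • (g : M2) = u' • (1 : M2) + v' • (g : M2) → u = u' ∧ v = v' := by
    intro u v u' v' h
    have hu : u = u' := mul_left_cancel₀ h2 (by rw [← tr_eq u v, ← tr_eq u' v', h])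
    subst hu
    exact ⟨rfl, smul_left_injective F g.ne_zero (add_left_cancel h)⟩
  have hf : Function.Injective f := by
    have hne : ∀ t : A, f none ≠ f (some t) := by
      intro t h
      have ht : 1 + D * (t : F) ^ 2 ≠ 0 := (Finset.mem_filter.1 t.2).2
      obtain ⟨h1, -⟩ := coord _ _ _ _ (congrArg (fun x : slComm g => ((x : SL2) : M2)) h)
      rw [eq_div_iff ht] at h1
      exact h2 (by linear_combination -h1)
    rintro (_ | t) (_ | t') h
    · rfl
    · exact absurd h (hne t')
    · exact absurd h.symm (hne t)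
    · have ht : 1 + D * (t : F) ^ 2 ≠ 0 := (Finset.mem_filter.1 t.2).2
      have ht' : 1 + D * (t' : F) ^ 2 ≠ 0 := (Finset.mem_filter.1 t'.2).2
      obtain ⟨h1, h3⟩ := coord _ _ _ _ (congrArg (fun x : slComm g => ((x : SL2) : M2)) h)
      have e : 2 * (t : F) / (1 + D * (t : F) ^ 2) * (1 + D * (t : F) ^ 2) = 2 * (t : F) :=
        div_mul_cancel₀ _ ht
      have e' : 2 * (t' : F) / (1 + D * (t' : F) ^ 2) * (1 + D * (t' : F) ^ 2) = 2 * (t' : F) :=
        div_mul_cancel₀ _ ht'
      rw [div_eq_div_iff ht ht'] at h1 h3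
      have hsq : 1 + D * (t : F) ^ 2 = 1 + D * (t' : F) ^ 2 := mul_left_cancel₀ h2 (by linear_combination -h1)
      rw [hsq] at h3
      exact congrArg some (Subtype.ext (mul_left_cancel₀ h2 (mul_right_cancel₀ ht' h3)))
  have := Nat.card_le_card_of_injective f hf
  rw [Nat.card_eq_fintype_card (α := Option A), Fintype.card_option, Fintype.card_coe] at this
  have := Fintype.one_lt_card (α := F)
  refine ⟨by omega, fun hns => ?_⟩
  have := hA' hns
  omega

theorem exists_char (h2 : (2 : F) ≠ 0) {g : GL2} (htr : (g : M2).trace = 0) :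
    ∃ χ : slComm g →* AlgebraicClosure F, Function.Injective χ := by
  classical
  set D := (g : M2).det with hD
  obtain ⟨r, hr⟩ := IsAlgClosed.exists_pow_nat_eq (algebraMap F (AlgebraicClosure F) (-D)) two_pos
  have hr' : r * r = -algebraMap F (AlgebraicClosure F) D := by rw [← pow_two, hr, map_neg]
  have hD0 : D ≠ 0 := by rw [hD, ← GeneralLinearGroup.val_det_apply]; exact Units.ne_zero _
  choose U V hUV using fun s : slComm g => eq_comb h2 htr s.2
  have coord : ∀ u v u' v' : F,
      u • (1 : M2) + v • (g : M2) = u' • (1 : M2) + v' • (g : M2) → u = u' ∧ v = v' := by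
    intro u v u' v' h
    have hu : u = u' := mul_left_cancel₀ h2 (by
      have := congrArg Matrix.trace h
      simp only [trace_add, trace_smul, htr, trace_one, Fintype.card_fin, smul_zero, add_zero,
        smul_eq_mul] at this
      push_cast at this
      linear_combination this)
    subst hu
    exact ⟨rfl, smul_left_injective F g.ne_zero (add_left_cancel h)⟩
  have h1 : U 1 = 1 ∧ V 1 = 0 := coord _ _ _ _ (by rw [← hUV]; simp)
  have hmul : ∀ s t : slComm g, U (s * t) = U s * U t - D * V s * V t ∧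
      V (s * t) = U s * V t + U t * V s := fun s t => coord _ _ _ _ (by
    rw [← hUV, ← mul_comb htr, ← hUV, ← hUV]
    rfl)
  let ι := algebraMap F (AlgebraicClosure F)
  let χ : slComm g →* AlgebraicClosure F :=
    { toFun := fun s => ι (U s) + ι (V s) * r
      map_one' := by rw [h1.1, h1.2, map_one, map_zero, zero_mul, add_zero]
      map_mul' := fun s t => by
        rw [(hmul s t).1, (hmul s t).2]
        simp only [map_add, map_sub, map_mul]
        linear_combination -(ι (V s) * ι (V t)) * hr' }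
  refine ⟨χ, (injective_iff_map_eq_one χ).2 fun s hs => ?_⟩
  have hr0 : r ≠ 0 := by
    rintro rfl
    rw [mul_zero, eq_comm, neg_eq_zero] at hr'
    exact hD0 ((map_eq_zero ι).1 hr')
  have hdet : U s ^ 2 + D * V s ^ 2 = 1 := by
    rw [hD, ← det_comb htr, ← hUV]; exact (s : SL2).2
  have hdet' : ι (U s) ^ 2 + ι D * ι (V s) ^ 2 = 1 := by
    rw [← map_pow, ← map_pow, ← map_mul, ← map_add, hdet, map_one]
  have hs' : ι (U s) + ι (V s) * r = 1 := hs
  have hconj : ι (U s) - ι (V s) * r = 1 := by
    calc ι (U s) - ι (V s) * r = (ι (U s) - ι (V s) * r) * (ι (U s) + ι (V s) * r) := by rw [hs', mul_one]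
      _ = ι (U s) ^ 2 + ι D * ι (V s) ^ 2 := by linear_combination -(ι (V s) ^ 2) * hr'
      _ = 1 := hdet'
  have h2' : (2 : AlgebraicClosure F) ≠ 0 := by
    rw [← map_ofNat ι 2]; exact fun h => h2 ((map_eq_zero ι).1 h)
  have hV : V s = 0 := by
    apply ι.injective
    rw [map_zero]
    exact (mul_eq_zero.1 ((mul_eq_zero.1 (show (2 : AlgebraicClosure F) * (ι (V s) * r) = 0 by
      linear_combination hs' - hconj)).resolve_left h2')).resolve_right hr0
  have hU : U s = 1 := by
    apply ι.injective
    rw [map_one]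
    rw [hV, map_zero, zero_mul, add_zero] at hs'
    exact hs'
  apply Subtype.ext
  apply Subtype.ext
  rw [hUV, hU, hV]
  simp

theorem sl_inv_eq (s : SL2) : ((s⁻¹ : SL2) : M2) = (s : M2).trace • (1 : M2) - (s : M2) := by
  rw [Matrix.SpecialLinearGroup.coe_inv, adjugate_fin_two, trace_fin_two]
  ext i j
  fin_cases i <;> fin_cases j <;> simp

/-- An element of large order fixed by `g` and inverted by what anticommutes with `g`. -/
theorem exists_torus_elt (h2 : (2 : F) ≠ 0) {g : GL2} (htr : (g : M2).trace = 0) :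
    ∃ y : PSL2, Fintype.card F - 1 ≤ 2 * orderOf y ∧
      (¬ IsSquare (-(g : M2).det) → Fintype.card F + 1 ≤ 2 * orderOf y) ∧
      ¬ ringChar F ∣ orderOf y ∧ (conjAut g : MulAut PSL2) y = y ∧
      ∀ h : GL2, (h : M2) * (g : M2) = -((g : M2) * (h : M2)) → (conjAut h : MulAut PSL2) y = y⁻¹ := by
  classical
  obtain ⟨χ, hχ⟩ := exists_char h2 htr
  haveI : IsCyclic (slComm g) := isCyclic_of_injective_ringHom χ hχ
  obtain ⟨⟨s, hs⟩, hgen⟩ := IsCyclic.exists_generator (α := slComm g)
  have hord : orderOf s = Nat.card (slComm g) := by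
    rw [← Subgroup.orderOf_mk s hs]; exact orderOf_eq_card_of_forall_mem_zpowers hgen
  have hz : s ^ orderOf (QuotientGroup.mk s : PSL2) ∈ Subgroup.center SL2 := by
    rw [← QuotientGroup.eq_one_iff, QuotientGroup.mk_pow, pow_orderOf_eq_one]
  have h4 : orderOf s ∣ 2 * orderOf (QuotientGroup.mk s : PSL2) := by
    apply orderOf_dvd_of_pow_eq_one
    rw [mul_comm, pow_mul, pow_two]
    exact center_sq h2 hz
  have h5 := Nat.le_of_dvd (Nat.mul_pos two_pos (orderOf_pos _)) h4
  rw [hord] at h5
  refine ⟨QuotientGroup.mk s, (card_slComm_le h2 htr).1.trans h5,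
    fun hns => ((card_slComm_le h2 htr).2 hns).trans h5, ?_, ?_, ?_⟩
  · intro hp
    obtain ⟨q, hq⟩ := CharP.exists F
    haveI := hq
    haveI : Fact q.Prime := ⟨CharP.char_is_prime F q⟩
    rw [ringChar.eq F q] at hp
    have hdvd : q ∣ Nat.card (slComm g) := hord ▸ hp.trans (orderOf_map_dvd (QuotientGroup.mk' _) s)
    obtain ⟨w, hw⟩ := exists_prime_orderOf_dvd_card' q hdvd
    haveI : CharP (AlgebraicClosure F) q := charP_of_injective_algebraMap (algebraMap F (AlgebraicClosure F)).injective q
    have h1 : (χ w - 1) ^ q = 0 := by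
      rw [sub_pow_char, one_pow, ← map_pow, ← hw, pow_orderOf_eq_one, map_one, sub_self]
    rw [pow_eq_zero_iff (Nat.Prime.ne_zero (CharP.char_is_prime F q)), sub_eq_zero, ← map_one χ] at h1
    rw [hχ h1, orderOf_one] at hw
    exact (CharP.char_is_prime F q).ne_one hw.symm
  · rw [conjAut_mk]
    refine congrArg _ (Subtype.ext ?_)
    rw [coe_conjSL, ← mem_slComm.1 hs, mul_assoc, Units.mul_inv, mul_one]
  · intro h hh
    rw [conjAut_mk, ← QuotientGroup.mk_inv]
    refine congrArg _ (Subtype.ext ?_)
    obtain ⟨u, v, huv⟩ := eq_comb h2 htr hs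
    have h3 : (h : M2) * (s : M2) = ((s : M2).trace • (1 : M2) - (s : M2)) * (h : M2) := by
      rw [huv, trace_add, trace_smul, trace_smul, htr, trace_one, Fintype.card_fin, smul_zero, add_zero,
        smul_eq_mul]
      simp only [sub_mul, mul_add, add_mul, Matrix.mul_smul, Matrix.smul_mul, one_mul, mul_one, hh, smul_neg]
      push_cast
      module
    rw [coe_conjSL, sl_inv_eq, h3, mul_assoc, Units.mul_inv, mul_one]

end Torus

end Cfsg.Agent.Lib.GWConsumers70
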